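import Mathlib

/-!
MCL-ORBSTAB piece (helper6's team project S2073): orbit–stabilizer lower bound for a permutation
group.
-/

set_option autoImplicit false

namespace Cfsg.Agent.H69.Mcl

theorem orbit_stab_le {α : Type*} [Fintype α] [DecidableEq α] (H : Subgroup (Equiv.Perm α))
    (b : α) (O : Finset α) (h : ∀ q ∈ O, ∃ g ∈ H, g b = q) :
    O.card * Nat.card ↥(H ⊓ MulAction.stabilizer (Equiv.Perm α) b) ≤ Nat.card ↥H := by
  classical
  have h1 := MulAction.card_orbit_mul_card_stabilizer_eq_card_group (↥H) b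
  rw [← Nat.card_eq_fintype_card, ← Nat.card_eq_fintype_card, ← Nat.card_eq_fintype_card] at h1
  have h2 : Nat.card ↥(MulAction.stabilizer (↥H) b) =
      Nat.card ↥(H ⊓ MulAction.stabilizer (Equiv.Perm α) b) := by
    apply Nat.card_congr
    refine ⟨fun g => ⟨g.1.1, ⟨g.1.2, ?_⟩⟩, fun x => ⟨⟨x.1, x.2.1⟩, ?_⟩, ?_, ?_⟩
    · have h3 : g.1 • b = b := g.2
      exact h3
    · have h3 : (x.1 : Equiv.Perm α) • b = b := x.2.2
      exact h3
    · intro g; rfl
    · intro x; rfl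
  have h3 : O.card ≤ Nat.card ↥(MulAction.orbit (↥H) b) := by
    rw [Nat.card_coe_set_eq, ← Set.ncard_coe_finset O]
    apply Set.ncard_le_ncard _ (Set.toFinite _)
    intro q hq
    obtain ⟨g, hg, hgq⟩ := h q (Finset.mem_coe.mp hq)
    exact ⟨⟨g, hg⟩, hgq⟩
  rw [← h1, ← h2]
  exact Nat.mul_le_mul_right _ h3

end Cfsg.Agent.H69.Mcl
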