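import Mathlib

/-!
Team pieces S2490-NC, S2490-FRAT, S2490-NPC (for helper93): Mathlib only.
-/

set_option autoImplicit false

open Subgroup

namespace Cfsg.Agent.H69.Ord7920

theorem card_mul_relIndex_of_le {G : Type*} [Group G] [Finite G] {H K : Subgroup G} (h : H ≤ K) :
    Nat.card H * H.relIndex K = Nat.card K := by
  have h1 := Subgroup.relIndex_mul_index h
  have h2 := Subgroup.card_mul_index H
  have h3 := Subgroup.card_mul_index K
  have hpos : 0 < K.index := Nat.pos_of_ne_zero Subgroup.index_ne_zero_of_finite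
  have h4 : Nat.card H * H.relIndex K * K.index = Nat.card K * K.index := by
    rw [mul_assoc, h1, h2, h3]
  exact Nat.eq_of_mul_eq_mul_right hpos h4

/-- S2490-NC -/
theorem card_inf_normalizer_dvd {G : Type*} [Group G] [Finite G] (p : ℕ) [Fact p.Prime]
    (P : Subgroup G) (hP : Nat.card P = p) (H : Subgroup G) :
    Nat.card (H ⊓ normalizer (P : Set G) : Subgroup G) ∣
      (p - 1) * Nat.card (H ⊓ centralizer (P : Set G) : Subgroup G) := by
  classical
  have hcyc : IsCyclic P := isCyclic_of_prime_card hP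
  have haut : Nat.card (MulAut P) = p - 1 := by
    rw [IsCyclic.card_mulAut, hP, Nat.totient_prime Fact.out]
  let f : ↥(H ⊓ normalizer (P : Set G)) →* MulAut P :=
    P.normalizerMonoidHom.comp (Subgroup.inclusion inf_le_right)
  have h1 : Nat.card f.ker * f.ker.index = Nat.card ↥(H ⊓ normalizer (P : Set G)) :=
    Subgroup.card_mul_index _
  have h2 : f.ker.index = Nat.card f.range := Subgroup.index_ker f
  have h3 : Nat.card f.range ∣ p - 1 := by
    rw [← haut]; exact Subgroup.card_subgroup_dvd_card _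
  have hker : ∀ x : ↥(H ⊓ normalizer (P : Set G)), x ∈ f.ker →
      (x : G) ∈ H ⊓ centralizer (P : Set G) := by
    intro x hx
    refine ⟨x.2.1, ?_⟩
    have hx' : Subgroup.inclusion (inf_le_right : H ⊓ normalizer (P : Set G) ≤ _) x ∈
        P.normalizerMonoidHom.ker := hx
    rw [Subgroup.normalizerMonoidHom_ker, Subgroup.mem_subgroupOf] at hx'
    exact hx'
  let g : f.ker →* ↥(H ⊓ centralizer (P : Set G)) :=
    { toFun := fun x => ⟨((x : ↥(H ⊓ normalizer (P : Set G))) : G), hker x.1 x.2⟩
      map_one' := rfl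
      map_mul' := fun _ _ => rfl }
  have hg : Function.Injective g := by
    intro x y hxy
    have : ((x : ↥(H ⊓ normalizer (P : Set G))) : G) = ((y : ↥(H ⊓ normalizer (P : Set G))) : G) :=
      congrArg (fun z : ↥(H ⊓ centralizer (P : Set G)) => (z : G)) hxy
    exact Subtype.ext (Subtype.ext this)
  have h4 : Nat.card f.ker ∣ Nat.card ↥(H ⊓ centralizer (P : Set G)) :=
    Subgroup.card_dvd_of_injective g hg
  rw [← h1, h2, mul_comm]
  exact Nat.mul_dvd_mul h3 h4

/-- S2490-FRAT -/
theorem card_normal_eq_sylow_card_mul {G : Type*} [Group G] [Finite G] (p : ℕ) [Fact p.Prime]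
    (N : Subgroup G) [N.Normal] (P : Sylow p G) (hP : (P : Subgroup G) ≤ N) :
    Nat.card N = Nat.card (Sylow p G) *
      Nat.card (N ⊓ normalizer ((P : Subgroup G) : Set G) : Subgroup G) := by
  classical
  have htop : normalizer ((P : Subgroup G) : Set G) ⊔ N = ⊤ := Sylow.normalizer_sup_eq_top' P hP
  have h1 : Nat.card (Sylow p G) = (normalizer ((P : Subgroup G) : Set G)).index :=
    Sylow.card_eq_index_normalizer P
  have h2 := Subgroup.card_mul_index (normalizer ((P : Subgroup G) : Set G))
  have h3 := Subgroup.card_mul_index N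
  have h4 : N.relIndex (normalizer ((P : Subgroup G) : Set G) ⊔ N) =
      N.relIndex (normalizer ((P : Subgroup G) : Set G)) := Subgroup.relIndex_sup_right _ _
  rw [htop, Subgroup.relIndex_top_right] at h4
  have h5 : (N ⊓ normalizer ((P : Subgroup G) : Set G)).relIndex
      (normalizer ((P : Subgroup G) : Set G)) = N.relIndex (normalizer ((P : Subgroup G) : Set G)) :=
    Subgroup.inf_relIndex_right _ _
  have h6 := card_mul_relIndex_of_le
    (inf_le_right : N ⊓ normalizer ((P : Subgroup G) : Set G) ≤ normalizer ((P : Subgroup G) : Set G))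
  rw [h5, ← h4] at h6
  -- h6 : card (N ⊓ N(P)) * N.index = card N(P)
  have hpos : 0 < N.index := Nat.pos_of_ne_zero Subgroup.index_ne_zero_of_finite
  have h7 : Nat.card N * N.index = Nat.card (Sylow p G) *
      Nat.card (N ⊓ normalizer ((P : Subgroup G) : Set G) : Subgroup G) * N.index := by
    rw [h3, mul_assoc, h6, h1, mul_comm, h2]
  exact Nat.eq_of_mul_eq_mul_right hpos h7

/-- S2490-NPC -/
theorem exists_normal_compl {G : Type*} [Group G] [Finite G] (N : Subgroup G) [N.Normal]
    (p : ℕ) [Fact p.Prime] (S : Subgroup G) (hSN : S ≤ N) (hS : IsPGroup p S)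
    (hSyl : ¬ p ∣ Nat.card N / Nat.card S)
    (hNC : N ⊓ normalizer (S : Set G) ≤ centralizer (S : Set G)) :
    ∃ K : Subgroup G, K.Normal ∧ K ≤ N ∧ Nat.card K * Nat.card S = Nat.card N ∧
      ∀ n ∈ N, (orderOf n).Coprime p → n ∈ K := by
  classical
  have hp : p.Prime := Fact.out
  have hS' : IsPGroup p (S.subgroupOf N) :=
    hS.of_equiv (Subgroup.subgroupOfEquivOfLe hSN).symm
  have hcardS' : Nat.card (S.subgroupOf N) = Nat.card S :=
    Nat.card_congr (Subgroup.subgroupOfEquivOfLe hSN).toEquiv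
  have hidx0 : Nat.card (S.subgroupOf N) * (S.subgroupOf N).index = Nat.card N :=
    Subgroup.card_mul_index _
  have hSpos : 0 < Nat.card S := Nat.card_pos
  have hidx1 : (S.subgroupOf N).index = Nat.card N / Nat.card S := by
    rw [← hidx0, hcardS', Nat.mul_div_cancel_left _ hSpos]
  have hidx : ¬ p ∣ (S.subgroupOf N).index := by rw [hidx1]; exact hSyl
  let P' : Sylow p N := hS'.toSylow hidx
  have hP'coe : (P' : Subgroup N) = S.subgroupOf N := rfl
  have hP' : normalizer ((P' : Subgroup N) : Set N) ≤ centralizer ((P' : Subgroup N) : Set N) := by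
    intro x hx
    rw [hP'coe] at hx ⊢
    have hxN : (x : G) ∈ normalizer (S : Set G) := by
      rw [Subgroup.mem_normalizer_iff]
      intro h
      rw [Subgroup.mem_normalizer_iff] at hx
      constructor
      · intro hh
        have := (hx ⟨h, hSN hh⟩).1 (by rw [Subgroup.mem_subgroupOf]; exact hh)
        rw [Subgroup.mem_subgroupOf] at this
        exact this
      · intro hh
        have hhN : h ∈ N := by
          have h1 : (x : G) * h * (x : G)⁻¹ ∈ N := hSN hh
          have h2 := (inferInstance : N.Normal).conj_mem _ h1 (x : G)⁻¹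
          have h3 : (x : G)⁻¹ * ((x : G) * h * (x : G)⁻¹) * ((x : G)⁻¹)⁻¹ = h := by group
          rw [h3] at h2
          exact h2
        have := (hx ⟨h, hhN⟩).2 (by rw [Subgroup.mem_subgroupOf]; exact hh)
        rw [Subgroup.mem_subgroupOf] at this
        exact this
    have hxC : (x : G) ∈ centralizer (S : Set G) := hNC ⟨x.2, hxN⟩
    rw [Subgroup.mem_centralizer_iff]
    intro h hh
    have hh' : (h : G) ∈ S := by
      have : h ∈ S.subgroupOf N := hh
      rw [Subgroup.mem_subgroupOf] at this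
      exact this
    rw [Subgroup.mem_centralizer_iff] at hxC
    exact Subtype.ext (hxC _ hh')
  let K0 : Subgroup N := (MonoidHom.transferSylow P' hP').ker
  have hcompl : IsComplement' K0 (P' : Subgroup N) :=
    MonoidHom.ker_transferSylow_isComplement' P' hP'
  have hcard0 : Nat.card K0 * Nat.card (P' : Subgroup N) = Nat.card N := hcompl.card_mul_card
  have hK0p : ¬ p ∣ Nat.card K0 := MonoidHom.not_dvd_card_ker_transferSylow P' hP'
  have hmemK0 : ∀ x : N, (orderOf x).Coprime p → x ∈ K0 := by
    intro x hx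
    show x ∈ (MonoidHom.transferSylow P' hP').ker
    rw [MonoidHom.mem_ker]
    set y := MonoidHom.transferSylow P' hP' x with hy
    have h1 : orderOf y ∣ orderOf x := orderOf_map_dvd _ x
    obtain ⟨k, hk⟩ := (P'.2 : IsPGroup p (P' : Subgroup N)) y
    have h2 : orderOf y ∣ p ^ k := orderOf_dvd_of_pow_eq_one hk
    have h3 : (orderOf x).Coprime (p ^ k) := Nat.Coprime.pow_right k hx
    have h4 : orderOf y ∣ 1 := by
      have := Nat.dvd_gcd h1 h2
      rwa [Nat.Coprime.gcd_eq_one h3] at this
    exact orderOf_eq_one_iff.mp (Nat.dvd_one.mp h4)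
  have hcopK0 : ∀ x : N, x ∈ K0 → (orderOf x).Coprime p := by
    intro x hx
    have h1 : orderOf (⟨x, hx⟩ : K0) ∣ Nat.card K0 := orderOf_dvd_natCard _
    have h2 : orderOf (⟨x, hx⟩ : K0) = orderOf x := Subgroup.orderOf_mk x hx
    rw [h2] at h1
    rw [Nat.coprime_comm, Nat.Prime.coprime_iff_not_dvd hp]
    intro h3
    exact hK0p (h3.trans h1)
  refine ⟨K0.map N.subtype, ?_, ?_, ?_, ?_⟩
  · constructor
    intro k hk g
    obtain ⟨x, hx, rfl⟩ := Subgroup.mem_map.mp hk
    have hgN : g * (x : G) * g⁻¹ ∈ N := (inferInstance : N.Normal).conj_mem _ x.2 g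
    refine Subgroup.mem_map.mpr ⟨⟨g * (x : G) * g⁻¹, hgN⟩, ?_, rfl⟩
    apply hmemK0
    have h1 : orderOf (⟨g * (x : G) * g⁻¹, hgN⟩ : N) = orderOf (g * (x : G) * g⁻¹) :=
      (Subgroup.orderOf_mk _ hgN)
    have h2 : orderOf (g * (x : G) * g⁻¹) = orderOf (x : G) := by
      have := MulEquiv.orderOf_eq (MulAut.conj g) (x : G)
      simpa [MulAut.conj_apply] using this
    have h3 : orderOf (x : G) = orderOf x := Subgroup.orderOf_coe x
    rw [h1, h2, h3]
    exact hcopK0 x hx
  · exact Subgroup.map_subtype_le K0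
  · have h1 : Nat.card (K0.map N.subtype) = Nat.card K0 :=
      Nat.card_congr (K0.equivMapOfInjective N.subtype (Subgroup.subtype_injective N)).toEquiv.symm
    rw [h1, ← hcardS']
    exact hcard0
  · intro n hn hcop
    refine Subgroup.mem_map.mpr ⟨⟨n, hn⟩, ?_, rfl⟩
    apply hmemK0
    have h1 : orderOf (⟨n, hn⟩ : N) = orderOf n := Subgroup.orderOf_mk n hn
    rw [h1]; exact hcop

end Cfsg.Agent.H69.Ord7920

section VerbatimChecks
open Cfsg.Agent.H69.Ord7920

example {G : Type*} [Group G] [Finite G] (p : ℕ) [Fact p.Prime]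
    (P : Subgroup G) (hP : Nat.card P = p) (H : Subgroup G) :
    Nat.card (H ⊓ normalizer (P : Set G) : Subgroup G) ∣
      (p - 1) * Nat.card (H ⊓ centralizer (P : Set G) : Subgroup G) :=
  card_inf_normalizer_dvd p P hP H

example {G : Type*} [Group G] [Finite G] (p : ℕ) [Fact p.Prime]
    (N : Subgroup G) [N.Normal] (P : Sylow p G) (hP : (P : Subgroup G) ≤ N) :
    Nat.card N = Nat.card (Sylow p G) *
      Nat.card (N ⊓ normalizer ((P : Subgroup G) : Set G) : Subgroup G) :=
  card_normal_eq_sylow_card_mul p N P hP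

example {G : Type*} [Group G] [Finite G] (N : Subgroup G) [N.Normal]
    (p : ℕ) [Fact p.Prime] (S : Subgroup G) (hSN : S ≤ N) (hS : IsPGroup p S)
    (hSyl : ¬ p ∣ Nat.card N / Nat.card S)
    (hNC : N ⊓ normalizer (S : Set G) ≤ centralizer (S : Set G)) :
    ∃ K : Subgroup G, K.Normal ∧ K ≤ N ∧ Nat.card K * Nat.card S = Nat.card N ∧
      ∀ n ∈ N, (orderOf n).Coprime p → n ∈ K :=
  exists_normal_compl N p S hSN hS hSyl hNC

end VerbatimChecks
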