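import Mathlib

/-!
MCL-OUTCONG piece (helper6's team project S2073): the order of the outer automorphism group is an
isomorphism invariant.
-/

set_option autoImplicit false

namespace Cfsg.Agent.H69.Mcl

theorem congr_conj {G H : Type*} [Group G] [Group H] (e : G ≃* H) (g : G) :
    MulAut.congr e (MulAut.conj g) = MulAut.conj (e g) := by
  ext h
  simp [MulAut.congr, MulAut.conj_apply]

theorem congr_mem_range_iff {G H : Type*} [Group G] [Group H] (e : G ≃* H) (φ : MulAut G) :
    MulAut.congr e φ ∈ (MulAut.conj : H →* MulAut H).range ↔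
      φ ∈ (MulAut.conj : G →* MulAut G).range := by
  constructor
  · rintro ⟨h, hh⟩
    refine ⟨e.symm h, ?_⟩
    apply (MulAut.congr e).injective
    rw [congr_conj, MulEquiv.apply_symm_apply]
    exact hh
  · rintro ⟨g, rfl⟩
    exact ⟨e g, (congr_conj e g).symm⟩

theorem card_out_congr {G H : Type*} [Group G] [Group H] (e : G ≃* H) :
    Nat.card (MulAut G ⧸ (MulAut.conj : G →* MulAut G).range) =
      Nat.card (MulAut H ⧸ (MulAut.conj : H →* MulAut H).range) := by
  apply Nat.card_congr
  refine Quotient.congr (MulAut.congr e).toEquiv ?_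
  intro a b
  change QuotientGroup.leftRel _ a b ↔ QuotientGroup.leftRel _ (MulAut.congr e a) (MulAut.congr e b)
  rw [QuotientGroup.leftRel_apply, QuotientGroup.leftRel_apply, ← map_inv, ← map_mul,
    congr_mem_range_iff]

end Cfsg.Agent.H69.Mcl
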