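import Cfsg.Agent.H69.SymSylowB

set_option autoImplicit false

namespace Cfsg.Agent.H69

section transport

variable (p : ℕ) [Fact p.Prime]

/-- `Fin (p * m + r) ≃ (Fin m × ZMod p) ⊕ Fin r` -/
noncomputable def finSplit (m r : ℕ) : Fin (p * m + r) ≃ (Fin m × ZMod p) ⊕ Fin r :=
  Fintype.equivOfCardEq (by simp [ZMod.card, mul_comm])

/-- embedding of `Perm (Fin m × ZMod p)` into `Perm (Fin (p * m + r))` -/
noncomputable def liftHom (m r : ℕ) :
    Equiv.Perm (Fin m × ZMod p) →* Equiv.Perm (Fin (p * m + r)) :=
  ((finSplit p m r).symm.permCongrHom.toMonoidHom).comp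
    ((Equiv.Perm.sumCongrHom (Fin m × ZMod p) (Fin r)).comp (MonoidHom.inl _ _))

theorem liftHom_injective (m r : ℕ) : Function.Injective (liftHom p m r) := by
  intro a b h
  unfold liftHom at h
  simp only [MonoidHom.coe_comp, MulEquiv.coe_toMonoidHom, Function.comp_apply] at h
  have h1 := (MulEquiv.injective _) h
  have h2 := Equiv.Perm.sumCongrHom_injective h1
  simpa using h2

theorem sign_liftHom (m r : ℕ) (σ : Equiv.Perm (Fin m × ZMod p)) :
    Equiv.Perm.sign (liftHom p m r σ) = Equiv.Perm.sign σ := by
  unfold liftHom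
  simp [Equiv.Perm.sign_permCongr, Equiv.Perm.sign_sumCongr]

theorem genP_sylow_perm :
    ∀ (n : ℕ) (P : Sylow p (Equiv.Perm (Fin n))), GenP p (P : Subgroup (Equiv.Perm (Fin n))) := by
  intro n
  induction n using Nat.strong_induction_on with
  | _ n ih =>
    intro P
    rcases Nat.eq_zero_or_pos n with rfl | hn
    · exact GenP.of_forall (fun x _ => Subsingleton.elim _ _)
    · obtain ⟨m, r, hr, rfl⟩ : ∃ m r, r < p ∧ n = p * m + r :=
        ⟨n / p, n % p, Nat.mod_lt _ (Fact.out : p.Prime).pos, (Nat.div_add_mod n p).symm⟩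
      have hp2 := (Fact.out : p.Prime).two_le
      have hm : m < p * m + r := by
        rcases Nat.eq_zero_or_pos m with rfl | h
        · simpa using hn
        · nlinarith
      obtain ⟨Pm⟩ : Nonempty (Sylow p (Equiv.Perm (Fin m))) := inferInstance
      have hPm := ih m hm Pm
      have hW : GenP p ((wrSub p m (Pm : Subgroup _)).map (liftHom p m r)) :=
        (genP_wrSub p m _ hPm).map _
      have hcard : Nat.card ((wrSub p m (Pm : Subgroup _)).map (liftHom p m r)) =
          p ^ (Nat.card (Equiv.Perm (Fin (p * m + r)))).factorization p := by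
        rw [Subgroup.card_map_of_injective (liftHom_injective p m r), card_wrSub,
          Sylow.card_eq_multiplicity]
        rw [Nat.card_eq_fintype_card, Nat.card_eq_fintype_card, Fintype.card_perm,
          Fintype.card_perm, Fintype.card_fin, Fintype.card_fin]
        rw [Nat.factorization_def _ Fact.out, Nat.factorization_def _ Fact.out,
          padicValNat_factorial_mul_add m hr, padicValNat_factorial_mul, pow_add]
      exact GenP.sylow_all (Sylow.ofCard _ hcard) P (by rw [Sylow.coe_ofCard]; exact hW)

end transport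

end Cfsg.Agent.H69
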