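import Mathlib
import Cfsg.Agent.H69.Ord7920N

/-!
Team pieces S2490-CENT, S2490-B144 (for helper93).
-/

set_option autoImplicit false

open Subgroup

namespace Cfsg.Agent.H69.Ord7920

/-- S2490-CENT -/
theorem card_inf_centralizer_modEq {G : Type*} [Group G] [Finite G] (N : Subgroup G) [N.Normal]
    (p : ℕ) [Fact p.Prime] (P : Subgroup G) (hP : IsPGroup p P) :
    Nat.card (N ⊓ centralizer (P : Set G) : Subgroup G) ≡ Nat.card N [MOD p] := by
  classical
  let _ : MulAction P N := MulAction.compHom N ((MulAut.conjNormal : G →* MulAut N).comp P.subtype)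
  have hsmul : ∀ (g : P) (n : N), ((g • n : N) : G) = (g : G) * (n : G) * (g : G)⁻¹ := by
    intro g n
    rfl
  have h1 : Nat.card N ≡ Nat.card (MulAction.fixedPoints P N) [MOD p] :=
    hP.card_modEq_card_fixedPoints N
  have h2 : Nat.card (MulAction.fixedPoints P N) =
      Nat.card (N ⊓ centralizer (P : Set G) : Subgroup G) := by
    refine Nat.card_congr ?_
    refine
      { toFun := fun n => ⟨((n : N) : G), ⟨(n : N).2, ?_⟩⟩
        invFun := fun x => ⟨⟨(x : G), x.2.1⟩, ?_⟩
        left_inv := fun n => rfl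
        right_inv := fun x => rfl }
    · refine Subgroup.mem_centralizer_iff.mpr ?_
      intro h hh
      have := n.2 ⟨h, hh⟩
      have h3 : (h : G) * ((n : N) : G) * (h : G)⁻¹ = ((n : N) : G) := by
        have := congrArg (fun z : N => (z : G)) this
        simpa [hsmul] using this
      calc h * ((n : N) : G) = h * ((n : N) : G) * h⁻¹ * h := by group
        _ = ((n : N) : G) * h := by rw [h3]
    · intro g
      apply Subtype.ext
      rw [hsmul]
      have hx : (x : G) ∈ centralizer (P : Set G) := x.2.2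
      rw [Subgroup.mem_centralizer_iff] at hx
      have := hx (g : G) g.2
      show (g : G) * (x : G) * (g : G)⁻¹ = (x : G)
      rw [this]; group
  rw [← h2]
  exact h1.symm

theorem exists_sylow_le {G : Type*} [Group G] [Finite G] [Fact (Nat.Prime 11)]
    (hord : Nat.card G = 7920)
    (N₁ : Subgroup G) (h11 : 11 ∣ Nat.card N₁) :
    ∃ P : Sylow 11 G, (P : Subgroup G) ≤ N₁ ∧ Nat.card P = 11 := by
  classical
  obtain ⟨x, hx⟩ := exists_prime_orderOf_dvd_card' (G := N₁) 11 h11
  have hxG : orderOf (x : G) = 11 := by rw [Subgroup.orderOf_coe]; exact hx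
  have hz : Nat.card (zpowers (x : G)) = 11 := by rw [Nat.card_zpowers, hxG]
  have hzp : IsPGroup 11 (zpowers (x : G)) := IsPGroup.of_card (n := 1) (by rw [hz]; norm_num)
  obtain ⟨P, hP⟩ := hzp.exists_le_sylow
  have hPcard : Nat.card P = 11 := by
    obtain ⟨k, hk⟩ := IsPGroup.iff_card.mp P.isPGroup'
    have hdvd : Nat.card P ∣ 7920 := hord ▸ Subgroup.card_subgroup_dvd_card (P : Subgroup G)
    have h11P : 11 ∣ Nat.card P := by
      have := Subgroup.card_dvd_of_le hP
      rwa [hz] at this
    have hk4 : k < 4 := by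
      by_contra hcon
      push Not at hcon
      have h1 : 11 ^ 4 ≤ 11 ^ k := Nat.pow_le_pow_right (by norm_num) hcon
      have h2 : 11 ^ k ≤ 7920 := Nat.le_of_dvd (by norm_num) (by rw [← hk]; exact hdvd)
      norm_num at h1
      omega
    rw [hk] at hdvd h11P ⊢
    interval_cases k
    · norm_num at h11P
    · norm_num
    · norm_num at hdvd
    · norm_num at hdvd
  refine ⟨P, ?_, hPcard⟩
  have heq : zpowers (x : G) = (P : Subgroup G) :=
    Subgroup.eq_of_le_of_card_ge hP (by rw [hz, hPcard])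
  rw [← heq, Subgroup.zpowers_le]
  exact x.2

/-- S2490-B144 -/
theorem not_sylow_card_144 {G : Type*} [Group G] [Finite G] (hord : Nat.card G = 7920)
    (hN : ∀ N : Subgroup G, N.Normal → N ≠ ⊥ → 11 ∣ Nat.card N)
    (N₁ : Subgroup G) (hN₁ : N₁.Normal) (hbot : N₁ ≠ ⊥) (htop : N₁ ≠ ⊤)
    (h144 : Nat.card (Sylow 11 G) = 144) : False := by
  classical
  have : Fact (Nat.Prime 11) := ⟨by norm_num⟩
  have := hN₁
  have h11 : 11 ∣ Nat.card N₁ := hN N₁ hN₁ hbot
  obtain ⟨P, hPN, hP11⟩ := exists_sylow_le hord N₁ h11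
  have h0 : Nat.card (Sylow 11 G) = (normalizer ((P : Subgroup G) : Set G)).index :=
    Sylow.card_eq_index_normalizer P
  have hidx : (normalizer ((P : Subgroup G) : Set G)).index = 144 := by
    rw [← h0, h144]
  have hNP : Nat.card (normalizer ((P : Subgroup G) : Set G)) = 55 := by
    have := Subgroup.card_mul_index (normalizer ((P : Subgroup G) : Set G))
    rw [hidx, hord] at this
    omega
  have hfrat := card_normal_eq_sylow_card_mul 11 N₁ P hPN
  rw [h144] at hfrat
  have hPL : (P : Subgroup G) ≤ N₁ ⊓ normalizer ((P : Subgroup G) : Set G) :=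
    le_inf hPN le_normalizer
  have hd1 : 11 ∣ Nat.card (N₁ ⊓ normalizer ((P : Subgroup G) : Set G) : Subgroup G) := by
    have := Subgroup.card_dvd_of_le hPL
    rwa [hP11] at this
  have hd2 : Nat.card (N₁ ⊓ normalizer ((P : Subgroup G) : Set G) : Subgroup G) ∣ 55 := by
    have := Subgroup.card_dvd_of_le
      (inf_le_right : N₁ ⊓ normalizer ((P : Subgroup G) : Set G) ≤ normalizer ((P : Subgroup G) : Set G))
    rwa [hNP] at this
  have hmem : Nat.card (N₁ ⊓ normalizer ((P : Subgroup G) : Set G) : Subgroup G) ∈ Nat.divisors 55 :=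
    Nat.mem_divisors.mpr ⟨hd2, by norm_num⟩
  have h55 : Nat.divisors 55 = {1, 5, 11, 55} := by decide
  rw [h55] at hmem
  simp only [Finset.mem_insert, Finset.mem_singleton] at hmem
  rcases hmem with h | h | h | h
  · rw [h] at hd1; norm_num at hd1
  · rw [h] at hd1; norm_num at hd1
  · -- L = P ≤ C(P)
    have hLP : (P : Subgroup G) = N₁ ⊓ normalizer ((P : Subgroup G) : Set G) :=
      Subgroup.eq_of_le_of_card_ge hPL (by rw [h, hP11])
    have hcyc : IsCyclic (P : Subgroup G) := isCyclic_of_prime_card hP11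
    have hNC : N₁ ⊓ normalizer ((P : Subgroup G) : Set G) ≤ centralizer ((P : Subgroup G) : Set G) := by
      rw [← hLP]
      intro x hx
      rw [Subgroup.mem_centralizer_iff]
      intro y hy
      have := (IsCyclic.isMulCommutative (α := (P : Subgroup G))).is_comm.comm ⟨y, hy⟩ ⟨x, hx⟩
      exact congrArg (fun z : (P : Subgroup G) => (z : G)) this
    have hcardN : Nat.card N₁ = 1584 := by rw [hfrat, h]
    have hSyl : ¬ 11 ∣ Nat.card N₁ / Nat.card (P : Subgroup G) := by
      rw [hcardN, hP11]; norm_num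
    obtain ⟨K, hKn, _, hKcard, _⟩ :=
      exists_normal_compl N₁ 11 (P : Subgroup G) hPN P.isPGroup' hSyl hNC
    rw [hcardN, hP11] at hKcard
    have hK144 : Nat.card K = 144 := by omega
    have hKbot : K ≠ ⊥ := by
      intro hK
      rw [hK, Subgroup.card_bot] at hK144
      norm_num at hK144
    have := hN K hKn hKbot
    rw [hK144] at this
    norm_num at this
  · have hcardN : Nat.card N₁ = Nat.card G := by rw [hfrat, h, hord]
    exact htop (Subgroup.eq_top_of_card_eq N₁ hcardN)

end Cfsg.Agent.H69.Ord7920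

section VerbatimChecks
open Cfsg.Agent.H69.Ord7920

example {G : Type*} [Group G] [Finite G] (N : Subgroup G) [N.Normal]
    (p : ℕ) [Fact p.Prime] (P : Subgroup G) (hP : IsPGroup p P) :
    Nat.card (N ⊓ centralizer (P : Set G) : Subgroup G) ≡ Nat.card N [MOD p] :=
  card_inf_centralizer_modEq N p P hP

example {G : Type*} [Group G] [Finite G] (hord : Nat.card G = 7920)
    (hN : ∀ N : Subgroup G, N.Normal → N ≠ ⊥ → 11 ∣ Nat.card N)
    (N₁ : Subgroup G) (hN₁ : N₁.Normal) (hbot : N₁ ≠ ⊥) (htop : N₁ ≠ ⊤)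
    (h144 : Nat.card (Sylow 11 G) = 144) : False :=
  not_sylow_card_144 hord hN N₁ hN₁ hbot htop h144

end VerbatimChecks
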