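import Mathlib
import Cfsg.Agent.H69.Ord7920B
import Cfsg.Agent.H93.PGCore

/-!
Team piece S2490-B45W (for helper93): the wrapper of the `n₁₁ = 45` case, with the core
(`b45_core`, S2490-B45C) as a hypothesis.
-/

set_option autoImplicit false

open Subgroup

namespace Cfsg.Agent.H69.Ord7920

theorem arith_ij_aux : ∀ i ∈ Finset.range 17, ∀ j ∈ Finset.range 17,
    i ∣ 16 → j ∣ i → i ∣ 10 * j → 0 < j →
    i = 16 ∨ (j = i ∧ (i = 1 ∨ i = 2 ∨ i = 4 ∨ i = 8)) ∨ (i = 2 ∧ j = 1) ∨
      (i = 4 ∧ j = 2) ∨ (i = 8 ∧ j = 4) := by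
  decide

theorem arith_ij : ∀ i < 17, ∀ j < 17, i ∣ 16 → j ∣ i → i ∣ 10 * j → 0 < j →
    i = 16 ∨ (j = i ∧ (i = 1 ∨ i = 2 ∨ i = 4 ∨ i = 8)) ∨ (i = 2 ∧ j = 1) ∨
      (i = 4 ∧ j = 2) ∨ (i = 8 ∧ j = 4) := fun i hi j hj =>
  arith_ij_aux i (Finset.mem_range.mpr hi) j (Finset.mem_range.mpr hj)

theorem arith_r2 (k r : ℕ) (hk1 : 1 ≤ k) (hk3 : k ≤ 3)
    (h : 11 * 2 ^ (k - 1) * r = 11 * 2 ^ k) : r = 2 := by
  interval_cases k <;> simp at h <;> omega

theorem arith_r (k a r : ℕ) (hk1 : 1 ≤ k) (hk3 : k ≤ 3) (h1 : a ∣ 2 ^ k)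
    (h2 : a ∣ 11 * 2 ^ (k - 1)) (h3 : a * r = 2 ^ k) (h4 : r ≤ 2) : r = 2 := by
  have hg := Nat.dvd_gcd h1 h2
  have hr : r = 0 ∨ r = 1 ∨ r = 2 := by omega
  interval_cases k
  · have ha : a ≤ 1 := Nat.le_of_dvd (by norm_num) (by simpa using hg)
    rcases hr with rfl | rfl | rfl
    · simp at h3
    · simp at h3; omega
    · rfl
  · have hg' : a ∣ 2 := by
      have : Nat.gcd (2 ^ 2) (11 * 2 ^ (2 - 1)) = 2 := by decide
      rwa [this] at hg
    have ha : a ≤ 2 := Nat.le_of_dvd (by norm_num) hg'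
    rcases hr with rfl | rfl | rfl
    · simp at h3
    · simp at h3; omega
    · rfl
  · have hg' : a ∣ 4 := by
      have : Nat.gcd (2 ^ 3) (11 * 2 ^ (3 - 1)) = 4 := by decide
      rwa [this] at hg
    have ha : a ≤ 4 := Nat.le_of_dvd (by norm_num) hg'
    rcases hr with rfl | rfl | rfl
    · simp at h3
    · simp at h3; omega
    · rfl

theorem sub45 {G : Type*} [Group G] [Finite G] (P : Sylow 11 G) (M : Subgroup G) (k : ℕ)
    (hk1 : 1 ≤ k) (hk3 : k ≤ 3)
    (hm : Nat.card (M ⊓ normalizer ((P : Subgroup G) : Set G) : Subgroup G) = 11 * 2 ^ k)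
    (hc : Nat.card (M ⊓ centralizer ((P : Subgroup G) : Set G) : Subgroup G) = 11 * 2 ^ (k - 1)) :
    ∃ S : Subgroup G, S ≤ M ∧ S ≤ normalizer ((P : Subgroup G) : Set G) ∧ Nat.card S = 2 ^ k ∧
      (S ⊓ centralizer ((P : Subgroup G) : Set G)).relIndex S = 2 := by
  classical
  have hdvd : 2 ^ k ∣ Nat.card (M ⊓ normalizer ((P : Subgroup G) : Set G) : Subgroup G) := by
    rw [hm]; exact Dvd.intro_left 11 rfl
  obtain ⟨S₀, hS₀⟩ := Sylow.exists_subgroup_card_pow_prime 2 hdvd
  have hSL : S₀.map (M ⊓ normalizer ((P : Subgroup G) : Set G)).subtype ≤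
      M ⊓ normalizer ((P : Subgroup G) : Set G) := Subgroup.map_subtype_le S₀
  have hS : Nat.card (S₀.map (M ⊓ normalizer ((P : Subgroup G) : Set G)).subtype) = 2 ^ k := by
    rw [← hS₀]
    exact Nat.card_congr (S₀.equivMapOfInjective _ (Subgroup.subtype_injective _)).toEquiv.symm
  refine ⟨S₀.map (M ⊓ normalizer ((P : Subgroup G) : Set G)).subtype, hSL.trans inf_le_left,
    hSL.trans inf_le_right, hS, ?_⟩
  generalize S₀.map (M ⊓ normalizer ((P : Subgroup G) : Set G)).subtype = S at hSL hS ⊢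
  have hCL : M ⊓ centralizer ((P : Subgroup G) : Set G) ≤ M ⊓ normalizer ((P : Subgroup G) : Set G) :=
    inf_le_inf_left M (Subgroup.centralizer_le_normalizer _)
  have ha1 : Nat.card (S ⊓ centralizer ((P : Subgroup G) : Set G) : Subgroup G) ∣ 2 ^ k := by
    have := Subgroup.card_dvd_of_le (inf_le_left : S ⊓ centralizer ((P : Subgroup G) : Set G) ≤ S)
    rwa [hS] at this
  have ha2 : Nat.card (S ⊓ centralizer ((P : Subgroup G) : Set G) : Subgroup G) ∣ 11 * 2 ^ (k - 1) := by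
    have := Subgroup.card_dvd_of_le
      (le_inf (inf_le_left.trans (hSL.trans inf_le_left)) inf_le_right :
        S ⊓ centralizer ((P : Subgroup G) : Set G) ≤ M ⊓ centralizer ((P : Subgroup G) : Set G))
    rwa [hc] at this
  have har := card_mul_relIndex_of_le
    (inf_le_left : S ⊓ centralizer ((P : Subgroup G) : Set G) ≤ S)
  rw [hS] at har
  have hr2 : (S ⊓ centralizer ((P : Subgroup G) : Set G)).relIndex S ≤ 2 := by
    have h1 : (M ⊓ centralizer ((P : Subgroup G) : Set G)).relIndex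
        (M ⊓ normalizer ((P : Subgroup G) : Set G)) = 2 := by
      have := card_mul_relIndex_of_le hCL
      rw [hc, hm] at this
      exact arith_r2 k _ hk1 hk3 this
    have h2 : (M ⊓ centralizer ((P : Subgroup G) : Set G)).relIndex S ≤
        (M ⊓ centralizer ((P : Subgroup G) : Set G)).relIndex
          (M ⊓ normalizer ((P : Subgroup G) : Set G)) :=
      Subgroup.relIndex_le_of_le_right hSL (by rw [h1]; norm_num)
    have h3 : (M ⊓ centralizer ((P : Subgroup G) : Set G)).relIndex S =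
        (S ⊓ centralizer ((P : Subgroup G) : Set G)).relIndex S := by
      rw [← Subgroup.inf_relIndex_right (M ⊓ centralizer ((P : Subgroup G) : Set G)) S]
      congr 1
      apply le_antisymm
      · exact le_inf inf_le_right (inf_le_left.trans inf_le_right)
      · exact le_inf (le_inf (inf_le_left.trans (hSL.trans inf_le_left)) inf_le_right) inf_le_left
    rw [← h3]; rw [h1] at h2; exact h2
  exact arith_r k _ _ hk1 hk3 ha1 ha2 har hr2

/-- S2490-B45W with the core as a hypothesis. -/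
theorem not_sylow_card_45_of_core {G : Type*} [Group G] [Finite G] (hord : Nat.card G = 7920)
    (hcore : ∀ (P : Sylow 11 G) (k : ℕ), Nat.card P = 11 → 1 ≤ k → k ≤ 3 →
      Nat.card (normalClosure (((P : Subgroup G) : Set G))) = 495 * 2 ^ k →
      ∀ S : Subgroup G, S ≤ normalClosure (((P : Subgroup G) : Set G)) →
        S ≤ normalizer ((P : Subgroup G) : Set G) → Nat.card S = 2 ^ k →
        (S ⊓ centralizer ((P : Subgroup G) : Set G)).relIndex S = 2 → False)
    (hN : ∀ N : Subgroup G, N.Normal → N ≠ ⊥ → 11 ∣ Nat.card N)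
    (N₁ : Subgroup G) (hN₁ : N₁.Normal) (hbot : N₁ ≠ ⊥) (htop : N₁ ≠ ⊤)
    (h45 : Nat.card (Sylow 11 G) = 45) : False := by
  classical
  have : Fact (Nat.Prime 11) := ⟨by norm_num⟩
  have := hN₁
  have h11 : 11 ∣ Nat.card N₁ := hN N₁ hN₁ hbot
  obtain ⟨P, hPN, hP11⟩ := exists_sylow_le hord N₁ h11
  have hMn : (normalClosure (((P : Subgroup G) : Set G))).Normal := Subgroup.normalClosure_normal
  have hPM : (P : Subgroup G) ≤ normalClosure (((P : Subgroup G) : Set G)) :=
    Subgroup.le_normalClosure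
  have hMN : normalClosure (((P : Subgroup G) : Set G)) ≤ N₁ := Subgroup.normalClosure_le_normal hPN
  generalize hMdef : normalClosure (((P : Subgroup G) : Set G)) = M at hMn hPM hMN
  have h0 : Nat.card (Sylow 11 G) = (normalizer ((P : Subgroup G) : Set G)).index :=
    Sylow.card_eq_index_normalizer P
  have hNP : Nat.card (normalizer ((P : Subgroup G) : Set G)) = 176 := by
    have := Subgroup.card_mul_index (normalizer ((P : Subgroup G) : Set G))
    rw [← h0, h45, hord] at this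
    omega
  have hfrat := card_normal_eq_sylow_card_mul 11 M P hPM
  rw [h45] at hfrat
  have hPL : (P : Subgroup G) ≤ M ⊓ normalizer ((P : Subgroup G) : Set G) :=
    le_inf hPM le_normalizer
  have hcyc : IsCyclic (P : Subgroup G) := isCyclic_of_prime_card hP11
  have hcomm : (P : Subgroup G) ≤ centralizer ((P : Subgroup G) : Set G) := by
    intro x hx
    rw [Subgroup.mem_centralizer_iff]
    intro y hy
    have := (IsCyclic.isMulCommutative (α := (P : Subgroup G))).is_comm.comm ⟨y, hy⟩ ⟨x, hx⟩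
    exact congrArg (fun z : (P : Subgroup G) => (z : G)) this
  have hPC : (P : Subgroup G) ≤ M ⊓ centralizer ((P : Subgroup G) : Set G) := le_inf hPM hcomm
  have hCL : M ⊓ centralizer ((P : Subgroup G) : Set G) ≤ M ⊓ normalizer ((P : Subgroup G) : Set G) :=
    inf_le_inf_left M (Subgroup.centralizer_le_normalizer _)
  have hm1 : 11 ∣ Nat.card (M ⊓ normalizer ((P : Subgroup G) : Set G) : Subgroup G) := by
    have := Subgroup.card_dvd_of_le hPL
    rwa [hP11] at this
  have hm2 : Nat.card (M ⊓ normalizer ((P : Subgroup G) : Set G) : Subgroup G) ∣ 176 := by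
    have := Subgroup.card_dvd_of_le
      (inf_le_right : M ⊓ normalizer ((P : Subgroup G) : Set G) ≤ normalizer ((P : Subgroup G) : Set G))
    rwa [hNP] at this
  have hc1 : 11 ∣ Nat.card (M ⊓ centralizer ((P : Subgroup G) : Set G) : Subgroup G) := by
    have := Subgroup.card_dvd_of_le hPC
    rwa [hP11] at this
  have hc2 : Nat.card (M ⊓ centralizer ((P : Subgroup G) : Set G) : Subgroup G) ∣
      Nat.card (M ⊓ normalizer ((P : Subgroup G) : Set G) : Subgroup G) :=
    Subgroup.card_dvd_of_le hCL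
  have hc3 : Nat.card (M ⊓ normalizer ((P : Subgroup G) : Set G) : Subgroup G) ∣
      10 * Nat.card (M ⊓ centralizer ((P : Subgroup G) : Set G) : Subgroup G) :=
    card_inf_normalizer_dvd 11 (P : Subgroup G) hP11 M
  have hcpos : 0 < Nat.card (M ⊓ centralizer ((P : Subgroup G) : Set G) : Subgroup G) := Nat.card_pos
  obtain ⟨i, hi⟩ := hm1
  obtain ⟨j, hj⟩ := hc1
  rw [hi] at hm2 hc2 hc3 hfrat
  rw [hj] at hc2 hc3 hcpos
  have hi16 : i ∣ 16 := Nat.dvd_of_mul_dvd_mul_left (by norm_num : 0 < 11) (by simpa using hm2)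
  have hji : j ∣ i := Nat.dvd_of_mul_dvd_mul_left (by norm_num : 0 < 11) hc2
  have hi10 : i ∣ 10 * j := by
    have h1 : 11 * i ∣ 11 * (10 * j) := by
      rw [show 11 * (10 * j) = 10 * (11 * j) by ring]; exact hc3
    exact Nat.dvd_of_mul_dvd_mul_left (by norm_num : 0 < 11) h1
  have hjpos : 0 < j := by omega
  have hipos : 0 < i := Nat.pos_of_dvd_of_pos hi16 (by norm_num)
  have hi_lt : i < 17 := Nat.lt_succ_of_le (Nat.le_of_dvd (by norm_num) hi16)
  have hj_lt : j < 17 := lt_of_le_of_lt (Nat.le_of_dvd hipos hji) hi_lt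
  rcases arith_ij i hi_lt j hj_lt hi16 hji hi10 hjpos with h | ⟨hji', h⟩ | ⟨hi', hj'⟩ | ⟨hi', hj'⟩ |
    ⟨hi', hj'⟩
  · -- m = 176 : M = ⊤
    have hcardM : Nat.card M = Nat.card G := by rw [hfrat, h, hord]
    have hMtop : M = ⊤ := Subgroup.eq_top_of_card_eq M hcardM
    rw [hMtop] at hMN
    exact htop (top_le_iff.mp hMN)
  · -- c = m : normal complement of order 45 * i
    have hLC : M ⊓ centralizer ((P : Subgroup G) : Set G) = M ⊓ normalizer ((P : Subgroup G) : Set G) :=
      Subgroup.eq_of_le_of_card_ge hCL (by rw [hi, hj, hji'])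
    have hNC : M ⊓ normalizer ((P : Subgroup G) : Set G) ≤ centralizer ((P : Subgroup G) : Set G) := by
      rw [← hLC]; exact inf_le_right
    have hSyl : ¬ 11 ∣ Nat.card M / Nat.card (P : Subgroup G) := by
      rw [hfrat, hP11]
      rcases h with rfl | rfl | rfl | rfl <;> norm_num
    obtain ⟨K, hKn, _, hKcard, _⟩ :=
      exists_normal_compl M 11 (P : Subgroup G) hPM P.isPGroup' hSyl hNC
    rw [hfrat, hP11] at hKcard
    have hKbot : K ≠ ⊥ := by
      intro hK
      rw [hK, Subgroup.card_bot] at hKcard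
      omega
    have hK11 := hN K hKn hKbot
    obtain ⟨e, he⟩ := hK11
    rw [he] at hKcard
    rcases h with rfl | rfl | rfl | rfl <;> omega
  · -- k = 1
    subst hi' hj'
    obtain ⟨S, hSM, hSP, hS, hT⟩ := sub45 P M 1 (by norm_num) (by norm_num) (hi.trans (by norm_num)) (hj.trans (by norm_num))
    subst hMdef
    exact hcore P 1 hP11 (by norm_num) (by norm_num) (hfrat.trans (by norm_num)) S hSM hSP hS hT
  · subst hi' hj'
    obtain ⟨S, hSM, hSP, hS, hT⟩ := sub45 P M 2 (by norm_num) (by norm_num) (hi.trans (by norm_num)) (hj.trans (by norm_num))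
    subst hMdef
    exact hcore P 2 hP11 (by norm_num) (by norm_num) (hfrat.trans (by norm_num)) S hSM hSP hS hT
  · subst hi' hj'
    obtain ⟨S, hSM, hSP, hS, hT⟩ := sub45 P M 3 (by norm_num) (by norm_num) (hi.trans (by norm_num)) (hj.trans (by norm_num))
    subst hMdef
    exact hcore P 3 hP11 (by norm_num) (by norm_num) (hfrat.trans (by norm_num)) S hSM hSP hS hT

/-- S2490-B45W -/
theorem not_sylow_card_45 {G : Type*} [Group G] [Finite G] (hord : Nat.card G = 7920)
    (hfaith : ∀ g : G, (∀ Q : Sylow 11 G, g • Q = Q) → g = 1)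
    (hN : ∀ N : Subgroup G, N.Normal → N ≠ ⊥ → 11 ∣ Nat.card N)
    (N₁ : Subgroup G) (hN₁ : N₁.Normal) (hbot : N₁ ≠ ⊥) (htop : N₁ ≠ ⊤)
    (h45 : Nat.card (Sylow 11 G) = 45) : False :=
  not_sylow_card_45_of_core hord
    (fun P k hP hk1 hk3 hM S hSM hSP hS hT =>
      Cfsg.Agent.H93.PG.b45_core hfaith h45 P hP k hk1 hk3 hM S hSM hSP hS hT)
    hN N₁ hN₁ hbot htop h45

end Cfsg.Agent.H69.Ord7920

section VerbatimChecks
open Cfsg.Agent.H69.Ord7920

example {G : Type*} [Group G] [Finite G] (hord : Nat.card G = 7920)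
    (hfaith : ∀ g : G, (∀ Q : Sylow 11 G, g • Q = Q) → g = 1)
    (hN : ∀ N : Subgroup G, N.Normal → N ≠ ⊥ → 11 ∣ Nat.card N)
    (N₁ : Subgroup G) (hN₁ : N₁.Normal) (hbot : N₁ ≠ ⊥) (htop : N₁ ≠ ⊤)
    (h45 : Nat.card (Sylow 11 G) = 45) : False :=
  not_sylow_card_45 hord hfaith hN N₁ hN₁ hbot htop h45

end VerbatimChecks
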