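import Mathlib

/-!
MCL-CENT piece (helper6's team project S2073): the centralizer in `Sym(n)` of a transitive group
whose point stabilizer fixes no other point is trivial.
-/

set_option autoImplicit false

namespace Cfsg.Agent.H69.Mcl

theorem cent_trivial {n : ℕ} (K : Subgroup (Equiv.Perm (Fin n))) (b : Fin n)
    (htrans : ∀ q : Fin n, ∃ g ∈ K, g b = q)
    (hfix : ∀ q : Fin n, q ≠ b → ∃ g ∈ K, g b = b ∧ g q ≠ q) (c : Equiv.Perm (Fin n))
    (hc : ∀ g ∈ K, c * g = g * c) : c = 1 := by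
  have hcb : c b = b := by
    by_contra hne
    obtain ⟨g, hg, hgb, hgq⟩ := hfix (c b) hne
    apply hgq
    have h1 := congrArg (fun σ : Equiv.Perm (Fin n) => σ b) (hc g hg)
    simp only [Equiv.Perm.mul_apply] at h1
    rw [hgb] at h1
    exact h1.symm
  apply Equiv.ext
  intro q
  obtain ⟨g, hg, rfl⟩ := htrans q
  have h1 := congrArg (fun σ : Equiv.Perm (Fin n) => σ b) (hc g hg)
  simp only [Equiv.Perm.mul_apply] at h1
  rw [hcb] at h1
  rw [h1, Equiv.Perm.one_apply]

end Cfsg.Agent.H69.Mcl
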