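import Cfsg.Agent.H21.BRDefs
import Cfsg.Agent.H21.BRSplit
import Cfsg.Agent.H81.Reg
import Cfsg.Agent.H81.Counting

/-!
S0999-TBC3 piece (helper21's Brauer–Reynolds team project): the class-multiplication count at
the involution `τ` in type B.
-/

set_option autoImplicit false

namespace Cfsg.Agent.H69.BR

open Cfsg Cfsg.Agent.H21.BR

open scoped ComplexConjugate

theorem card_pairs_tau {G : Type*} [Group G] [Finite G] (p : ℕ) [Fact p.Prime]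
    (hp2 : p ≠ 2) (P : Sylow p G) (hP : Nat.card (P : Subgroup G) = p)
    (e t : ℕ) (X Y : Finset (IrrCharacter G)) (δ : IrrCharacter G → ℤ) (ε : ℤ)
    (h : B0Data p (P : Subgroup G) e X Y δ ε) (hB : TypeB p e t X Y δ ε)
    (Z : Finset (IrrCharacter G)) (hZ : ∀ ψ, ψ ∈ Z ↔ ψ ∉ X ∧ ψ ∉ Y)
    (hsq : ∑ ψ ∈ Z, charDegree (ψ : G → ℂ) ^ 2 = p ^ 2 * (t - 1))
    (τ : G) (hτ : orderOf τ = 2) (s : ℤ) (hv : TauVals p t X Y δ τ s) (hs : s ^ 2 = 1)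
    (hplus : ∀ χ ∈ plusSet X δ, (χ : G → ℂ) τ ^ 2 = (t : ℂ) ^ 2) :
    Nat.card {ab : G × G // ab.1 * τ * ab.1⁻¹ * (ab.2 * τ⁻¹ * ab.2⁻¹) = τ} =
      (p - 1) ^ 2 * (p - 1 - e) := by
  classical
  have : Fintype G := Fintype.ofFinite G
  have hp := (Fact.out : p.Prime)
  have he2 := hB.he2
  have ht2 := hB.ht2
  have het := hB.het
  have hp2' := hp.two_le
  have hle : e ≤ e * t := Nat.le_mul_of_pos_right e (by omega)
  have hep : e ≤ p := by omega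
  have hep1 : e ≤ p - 1 := by omega
  have hpet : p = e * t + 1 := by omega
  have hτinv : τ⁻¹ = τ := by
    have h2 : τ ^ 2 = 1 := by
      rw [← hτ]
      exact pow_orderOf_eq_one τ
    rw [inv_eq_iff_mul_eq_one, ← pow_two]
    exact h2
  have hdeg : ∀ ψ : IrrCharacter G, (ψ : G → ℂ) 1 = (charDegree (ψ : G → ℂ) : ℂ) :=
    fun ψ => (Cfsg.Agent.H81.irr_charDegree ψ).1
  have hdegpos : ∀ ψ : IrrCharacter G, 0 < charDegree (ψ : G → ℂ) :=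
    fun ψ => (Cfsg.Agent.H81.irr_charDegree ψ).2
  -- complex constants
  have hpc0 : (p : ℂ) ≠ 0 := by exact_mod_cast (by omega : p ≠ 0)
  have htc0 : (t : ℂ) ≠ 0 := by exact_mod_cast (by omega : t ≠ 0)
  have hpe : ((p - e : ℕ) : ℂ) = (p : ℂ) - (e : ℂ) := Nat.cast_sub hep
  have hpe0 : (p : ℂ) - (e : ℂ) ≠ 0 := by
    rw [← hpe]
    exact_mod_cast (by omega : p - e ≠ 0)
  have hpc : (p : ℂ) = (e : ℂ) * (t : ℂ) + 1 := by exact_mod_cast hpet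
  have hs2 : (s : ℂ) ^ 2 = 1 := by exact_mod_cast hs
  have hs3 : (s : ℂ) * (s : ℂ) * (s : ℂ) = (s : ℂ) := by
    calc (s : ℂ) * (s : ℂ) * (s : ℂ) = (s : ℂ) ^ 2 * (s : ℂ) := by ring
      _ = (s : ℂ) := by rw [hs2, one_mul]
  have hY : Y.card = t := card_Y h t hB.het (by omega)
  -- the character sum
  have hsum : ∑ᶠ χ : IrrCharacter G,
      (χ : G → ℂ) τ * (χ : G → ℂ) τ⁻¹ * (χ : G → ℂ) τ⁻¹ / (χ : G → ℂ) 1 =
      1 + ((t : ℂ) ^ 2 / ((t : ℂ) * ((p : ℂ) - (e : ℂ)))) * (-1 - (s : ℂ)) + 0 +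
        (t : ℂ) * ((s : ℂ) * (s : ℂ) * (s : ℂ) / ((p : ℂ) - (e : ℂ))) +
        (p : ℂ) ^ 2 * ((t : ℂ) - 1) / (p : ℂ) ^ 3 := by
    rw [hτinv, sum_split h Z hZ (fun χ : IrrCharacter G =>
      (χ : G → ℂ) τ * (χ : G → ℂ) τ * (χ : G → ℂ) τ / (χ : G → ℂ) 1)]
    have h1 : ((one G : IrrCharacter G) : G → ℂ) τ * ((one G : IrrCharacter G) : G → ℂ) τ *
        ((one G : IrrCharacter G) : G → ℂ) τ / ((one G : IrrCharacter G) : G → ℂ) 1 = 1 := by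
      rw [Cfsg.Agent.H21.E2Block.triv_apply, Cfsg.Agent.H21.E2Block.triv_apply]
      norm_num
    have h2 : ∑ χ ∈ plusSet X δ,
        (χ : G → ℂ) τ * (χ : G → ℂ) τ * (χ : G → ℂ) τ / (χ : G → ℂ) 1 =
        ((t : ℂ) ^ 2 / ((t : ℂ) * ((p : ℂ) - (e : ℂ)))) * (-1 - (s : ℂ)) := by
      rw [← hv.sum_plus, Finset.mul_sum]
      apply Finset.sum_congr rfl
      intro χ hχ
      have e1 : (χ : G → ℂ) τ * (χ : G → ℂ) τ = (t : ℂ) ^ 2 := by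
        rw [← pow_two]
        exact hplus χ hχ
      rw [e1, hdeg χ, hB.deg_plus χ hχ, Nat.cast_mul, hpe]
      ring
    have h3 : ∑ χ ∈ minusSet X δ,
        (χ : G → ℂ) τ * (χ : G → ℂ) τ * (χ : G → ℂ) τ / (χ : G → ℂ) 1 = 0 := by
      apply Finset.sum_eq_zero
      intro χ hχ
      rw [hv.val_minus χ hχ]
      simp
    have h4 : ∑ θ ∈ Y,
        (θ : G → ℂ) τ * (θ : G → ℂ) τ * (θ : G → ℂ) τ / (θ : G → ℂ) 1 =
        (t : ℂ) * ((s : ℂ) * (s : ℂ) * (s : ℂ) / ((p : ℂ) - (e : ℂ))) := by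
      rw [Finset.sum_congr rfl (fun θ hθ => by
        rw [hv.val_Y θ hθ, hdeg θ, hB.deg_Y θ hθ, hpe]), Finset.sum_const, hY, nsmul_eq_mul]
    have h5 : ∑ ψ ∈ Z,
        (ψ : G → ℂ) τ * (ψ : G → ℂ) τ * (ψ : G → ℂ) τ / (ψ : G → ℂ) 1 =
        (p : ℂ) ^ 2 * ((t : ℂ) - 1) / (p : ℂ) ^ 3 := by
      have h6 : ∀ ψ ∈ Z, (ψ : G → ℂ) τ * (ψ : G → ℂ) τ * (ψ : G → ℂ) τ / (ψ : G → ℂ) 1 =
          ((charDegree (ψ : G → ℂ) ^ 2 : ℕ) : ℂ) / (p : ℂ) ^ 3 := by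
        intro ψ hψ
        have hout := (hZ ψ).mp hψ
        have hd := hv.val_out ψ hout.1 hout.2
        have hd0 : (charDegree (ψ : G → ℂ) : ℂ) ≠ 0 := by
          exact_mod_cast (hdegpos ψ).ne'
        have hτv : (ψ : G → ℂ) τ = (charDegree (ψ : G → ℂ) : ℂ) / (p : ℂ) := by
          rw [hd]
          field_simp
        rw [hτv, hdeg ψ]
        push_cast
        field_simp
      rw [Finset.sum_congr rfl h6, ← Finset.sum_div, ← Nat.cast_sum, hsq]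
      push_cast
      rw [Nat.cast_sub (by omega : 1 ≤ t)]
      push_cast
      ring
    rw [h1, h2, h3, h4, h5]
  have hcount := Cfsg.Agent.H81.card_conj_pairs (Cfsg.Agent.H81.regIdentity G) τ τ
  rw [hsum, hB.card_G] at hcount
  have hN : Nat.card {ab : G × G // ab.1 * τ * ab.1⁻¹ * (ab.2 * τ⁻¹ * ab.2⁻¹) = τ} =
      (Finset.univ.filter (fun ab : G × G =>
        ab.1 * τ * ab.1⁻¹ * (ab.2 * τ⁻¹ * ab.2⁻¹) = τ)).card := by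
    rw [Nat.card_eq_fintype_card, Fintype.card_subtype]
  rw [hN]
  apply Nat.cast_injective (R := ℂ)
  have hcast : (((p - 1) ^ 2 * (p - 1 - e) : ℕ) : ℂ) =
      ((p : ℂ) - 1) ^ 2 * ((p : ℂ) - 1 - (e : ℂ)) := by
    rw [Nat.cast_mul, Nat.cast_pow, Nat.cast_sub hep1, Nat.cast_sub (by omega : 1 ≤ p)]
    push_cast
    ring
  have hcastG : ((p * (p - 1) * (p - e) : ℕ) : ℂ) =
      (p : ℂ) * ((p : ℂ) - 1) * ((p : ℂ) - (e : ℂ)) := by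
    rw [Nat.cast_mul, Nat.cast_mul, hpe, Nat.cast_sub (by omega : 1 ≤ p)]
    push_cast
    ring
  rw [hcast]
  have e1 : (t : ℂ) ^ 2 / ((t : ℂ) * ((p : ℂ) - (e : ℂ))) * (-1 - (s : ℂ)) +
      (t : ℂ) * ((s : ℂ) * (s : ℂ) * (s : ℂ) / ((p : ℂ) - (e : ℂ))) =
      -(t : ℂ) / ((p : ℂ) - (e : ℂ)) := by
    rw [hs3]
    field_simp
    ring
  have e2 : (p : ℂ) ^ 2 * ((t : ℂ) - 1) / (p : ℂ) ^ 3 = ((t : ℂ) - 1) / (p : ℂ) := by
    field_simp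
  have e3 : (p : ℂ) * ((p : ℂ) - 1) * ((p : ℂ) - (e : ℂ)) *
      (1 + (-(t : ℂ) / ((p : ℂ) - (e : ℂ))) + ((t : ℂ) - 1) / (p : ℂ)) =
      (p : ℂ) * ((p : ℂ) - 1) * ((p : ℂ) - (e : ℂ)) - (t : ℂ) * (p : ℂ) * ((p : ℂ) - 1) +
        ((t : ℂ) - 1) * ((p : ℂ) - 1) * ((p : ℂ) - (e : ℂ)) := by
    field_simp
    ring
  calc ((Finset.univ.filter (fun ab : G × G =>
        ab.1 * τ * ab.1⁻¹ * (ab.2 * τ⁻¹ * ab.2⁻¹) = τ)).card : ℂ)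
      = ((p * (p - 1) * (p - e) : ℕ) : ℂ) *
        (1 + ((t : ℂ) ^ 2 / ((t : ℂ) * ((p : ℂ) - (e : ℂ)))) * (-1 - (s : ℂ)) + 0 +
        (t : ℂ) * ((s : ℂ) * (s : ℂ) * (s : ℂ) / ((p : ℂ) - (e : ℂ))) +
        (p : ℂ) ^ 2 * ((t : ℂ) - 1) / (p : ℂ) ^ 3) := by
        convert hcount using 3
    _ = (p : ℂ) * ((p : ℂ) - 1) * ((p : ℂ) - (e : ℂ)) *
        (1 + (-(t : ℂ) / ((p : ℂ) - (e : ℂ))) + ((t : ℂ) - 1) / (p : ℂ)) := by
        rw [hcastG, ← e1, e2]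
        ring
    _ = (p : ℂ) * ((p : ℂ) - 1) * ((p : ℂ) - (e : ℂ)) - (t : ℂ) * (p : ℂ) * ((p : ℂ) - 1) +
        ((t : ℂ) - 1) * ((p : ℂ) - 1) * ((p : ℂ) - (e : ℂ)) := e3
    _ = ((p : ℂ) - 1) ^ 2 * ((p : ℂ) - 1 - (e : ℂ)) := by
        linear_combination ((p : ℂ) - 1) * hpc

end Cfsg.Agent.H69.BR
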