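import Cfsg.Agent.H21.BRDefs
import Cfsg.Agent.H21.BRSplit
import Cfsg.Agent.H4.IrrCount
import Cfsg.Agent.H81.Reg

/-!
S0999-TBSQ piece (helper21's Brauer–Reynolds team project): the sum of the squares of the
degrees of the irreducible characters outside the principal block, in type B.
-/

set_option autoImplicit false

namespace Cfsg.Agent.H69.BR

open Cfsg Cfsg.Agent.H21.BR

open scoped ComplexConjugate

theorem sum_out_sq_aux (e t a b S p q m t' : ℤ) (H1 : q = e * t) (H2 : q + 1 = p)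
    (H3 : m + e = p) (H4 : a * t + 2 = e) (H5 : 1 + a + b = e) (H6 : t = t' + 1)
    (HE : 1 + a * (t * m) ^ 2 + b * q ^ 2 + t * m ^ 2 + S = p * q * m) :
    S = p ^ 2 * t' := by
  have hq : q = e * t := H1
  have hp : p = e * t + 1 := by rw [← H2, H1]
  have hm : m = e * t + 1 - e := by linarith
  have hb : b = e - 1 - a := by linarith
  have ht' : t' = t - 1 := by linarith
  subst hq hp hm hb ht'
  linear_combination HE + (t * (e ^ 2 - (e * t + 1 - e) ^ 2)) * H4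

theorem sum_out_sq {G : Type*} [Group G] [Finite G] (p : ℕ) [Fact p.Prime] (hp2 : p ≠ 2)
    (P : Subgroup G) (e t : ℕ) (X Y : Finset (IrrCharacter G)) (δ : IrrCharacter G → ℤ) (ε : ℤ)
    (h : B0Data p P e X Y δ ε) (hB : TypeB p e t X Y δ ε)
    (Z : Finset (IrrCharacter G)) (hZ : ∀ ψ, ψ ∈ Z ↔ ψ ∉ X ∧ ψ ∉ Y) :
    ∑ ψ ∈ Z, charDegree (ψ : G → ℂ) ^ 2 = p ^ 2 * (t - 1) := by
  classical
  have hp := (Fact.out : p.Prime)
  have he2 := hB.he2
  have ht2 := hB.ht2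
  have het := hB.het
  have hp2' := hp.two_le
  have hle : e ≤ e * t := Nat.le_mul_of_pos_right e (by omega)
  have hsq := Cfsg.Agent.H4.sum_irr_sq (G := G)
  rw [sum_split h Z hZ (fun ψ : IrrCharacter G => (ψ : G → ℂ) 1 ^ 2)] at hsq
  have hdeg : ∀ ψ : IrrCharacter G, (ψ : G → ℂ) 1 = (charDegree (ψ : G → ℂ) : ℂ) :=
    fun ψ => (Cfsg.Agent.H81.irr_charDegree ψ).1
  have h1 : ((one G : IrrCharacter G) : G → ℂ) 1 ^ 2 = 1 := by
    rw [Cfsg.Agent.H21.E2Block.triv_apply]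
    norm_num
  have h2 : ∑ χ ∈ plusSet X δ, (χ : G → ℂ) 1 ^ 2 =
      ((plusSet X δ).card : ℂ) * ((t * (p - e) : ℕ) : ℂ) ^ 2 := by
    rw [Finset.sum_congr rfl (fun χ hχ => by rw [hdeg χ, hB.deg_plus χ hχ]),
      Finset.sum_const, nsmul_eq_mul]
  have h3 : ∑ χ ∈ minusSet X δ, (χ : G → ℂ) 1 ^ 2 =
      ((minusSet X δ).card : ℂ) * ((p - 1 : ℕ) : ℂ) ^ 2 := by
    rw [Finset.sum_congr rfl (fun χ hχ => by rw [hdeg χ, hB.deg_minus χ hχ]),
      Finset.sum_const, nsmul_eq_mul]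
  have h4 : ∑ θ ∈ Y, (θ : G → ℂ) 1 ^ 2 = (Y.card : ℂ) * ((p - e : ℕ) : ℂ) ^ 2 := by
    rw [Finset.sum_congr rfl (fun χ hχ => by rw [hdeg χ, hB.deg_Y χ hχ]),
      Finset.sum_const, nsmul_eq_mul]
  have h5 : ∑ ψ ∈ Z, (ψ : G → ℂ) 1 ^ 2 =
      ((∑ ψ ∈ Z, charDegree (ψ : G → ℂ) ^ 2 : ℕ) : ℂ) := by
    rw [Finset.sum_congr rfl (fun χ _ => by rw [hdeg χ])]
    push_cast
    rfl
  rw [h1, h2, h3, h4, h5, hB.card_G] at hsq
  have hnat : 1 + (plusSet X δ).card * (t * (p - e)) ^ 2 + (minusSet X δ).card * (p - 1) ^ 2 +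
      Y.card * (p - e) ^ 2 + ∑ ψ ∈ Z, charDegree (ψ : G → ℂ) ^ 2 = p * (p - 1) * (p - e) := by
    exact_mod_cast hsq
  have hcardX := card_X_split h
  have hplus := hB.card_plus
  have hY : Y.card = t := card_Y h t hB.het (by omega)
  rw [hY] at hnat
  obtain ⟨q, hq⟩ : ∃ q, p - 1 = q := ⟨_, rfl⟩
  obtain ⟨m, hm⟩ : ∃ m, p - e = m := ⟨_, rfl⟩
  obtain ⟨t', ht'⟩ : ∃ t', t = t' + 1 := ⟨t - 1, by omega⟩
  rw [hq, hm] at hnat
  have H1 : q = e * t := by omega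
  have H2 : q + 1 = p := by omega
  have H3 : m + e = p := by omega
  have H4 : (plusSet X δ).card * t + 2 = e := by omega
  have key := sum_out_sq_aux (e : ℤ) (t : ℤ) ((plusSet X δ).card : ℤ) ((minusSet X δ).card : ℤ)
    ((∑ ψ ∈ Z, charDegree (ψ : G → ℂ) ^ 2 : ℕ) : ℤ) (p : ℤ) (q : ℤ) (m : ℤ) (t' : ℤ)
    (by exact_mod_cast H1) (by exact_mod_cast H2) (by exact_mod_cast H3)
    (by exact_mod_cast H4) (by exact_mod_cast hcardX) (by exact_mod_cast ht')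
    (by exact_mod_cast hnat)
  have ht1 : t - 1 = t' := by omega
  rw [ht1]
  exact_mod_cast key

end Cfsg.Agent.H69.BR
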