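import Mathlib

/-!
# Conjugacy class sizes and nilpotency (Cossey–Hawkes–Mann)

Helper lemmas: the set `B_p` of elements whose class size is prime to `p`, its description as the
union of the conjugates of `C_G(P)` for a Sylow `p`-subgroup `P`, and a counting criterion for
normality of `P`.
-/

namespace Cfsg.Agent.H69

open Subgroup

/-- Two finite types with equally sized fibres of `ℕ`-valued functions admit a fibre-preserving
bijection. -/
theorem exists_equiv_of_card_fiber_eq {α : Type*} {β : Type*} [Finite α] [Finite β]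
    (f : α → ℕ) (g : β → ℕ)
    (h : ∀ k : ℕ, Nat.card {a : α // f a = k} = Nat.card {b : β // g b = k}) :
    ∃ e : α ≃ β, ∀ a, g (e a) = f a := by
  have h1 : ∀ k : ℕ, Nonempty ({a : α // f a = k} ≃ {b : β // g b = k}) := fun k =>
    Finite.card_eq.mp (h k)
  let ek : ∀ k : ℕ, {a : α // f a = k} ≃ {b : β // g b = k} := fun k => Classical.choice (h1 k)
  refine ⟨(Equiv.sigmaFiberEquiv f).symm.trans
    ((Equiv.sigmaCongrRight ek).trans (Equiv.sigmaFiberEquiv g)), fun a => ?_⟩
  exact (ek (f a) ⟨a, rfl⟩).2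

/-- The number of elements with class size `k` is `k` times the number of classes of size `k`. -/
theorem card_elts_classSize {G : Type*} [Group G] [Finite G] (k : ℕ) :
    Nat.card {x : G // Nat.card (ConjClasses.mk x).carrier = k}
      = Nat.card {C : ConjClasses G // Nat.card C.carrier = k} * k := by
  have e : {x : G // Nat.card (ConjClasses.mk x).carrier = k} ≃
      (Σ C : {C : ConjClasses G // Nat.card C.carrier = k}, C.1.carrier) :=
    { toFun := fun x => ⟨⟨ConjClasses.mk x.1, x.2⟩, ⟨x.1, ConjClasses.mem_carrier_mk⟩⟩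
      invFun := fun y => ⟨y.2.1, by
        have h1 := ConjClasses.mem_carrier_iff_mk_eq.mp y.2.2
        rw [h1]; exact y.1.2⟩
      left_inv := fun x => rfl
      right_inv := fun y => by
        obtain ⟨⟨C, hC⟩, ⟨z, hz⟩⟩ := y
        have h1 := ConjClasses.mem_carrier_iff_mk_eq.mp hz
        subst h1
        rfl }
  have e2 : (Σ C : {C : ConjClasses G // Nat.card C.carrier = k}, C.1.carrier) ≃
      {C : ConjClasses G // Nat.card C.carrier = k} × Fin k :=
    Equiv.sigmaEquivProdOfEquiv (fun C => Finite.equivFinOfCardEq C.2)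
  rw [Nat.card_congr (e.trans e2), Nat.card_prod, Nat.card_fin]

/-- The class size is the index of the centralizer. -/
theorem card_carrier_eq_index {G : Type*} [Group G] (x : G) :
    Nat.card (ConjClasses.mk x).carrier = (centralizer ({x} : Set G)).index := by
  rw [← ConjAct.orbit_eq_carrier_conjClasses, Nat.card_coe_set_eq, ← MulAction.index_stabilizer,
    Subgroup.centralizer_eq_comap_stabilizer]
  exact (Subgroup.index_comap_of_surjective _ ConjAct.toConjAct.surjective).symm

theorem index_centralizer_conj {G : Type*} [Group G] (g x : G) :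
    (centralizer ({g * x * g⁻¹} : Set G)).index = (centralizer ({x} : Set G)).index := by
  rw [← card_carrier_eq_index, ← card_carrier_eq_index]
  have h1 : ConjClasses.mk (g * x * g⁻¹) = ConjClasses.mk x :=
    ConjClasses.mk_eq_mk_iff_isConj.mpr (isConj_iff.mpr ⟨g⁻¹, by group⟩)
  rw [h1]

theorem centralizer_mul_central {G : Type*} [Group G] (x n : G) (hn : n ∈ center G) :
    centralizer ({x * n} : Set G) = centralizer ({x} : Set G) := by
  ext g
  simp only [mem_centralizer_iff, Set.mem_singleton_iff, forall_eq]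
  have h1 : g * n = n * g := (mem_center_iff.mp hn) g
  constructor
  · intro h
    have h2 : x * g * n = g * x * n := by
      rw [mul_assoc x g n, h1, ← mul_assoc, h, mul_assoc]
    exact mul_right_cancel h2
  · intro h
    rw [mul_assoc, ← h1, ← mul_assoc, h, mul_assoc]

/-- A `p`-group acting by conjugation (through a homomorphism) on an invariant finite set:
the set and its fixed points have congruent cardinalities mod `p`. -/
theorem card_modEq_card_conj_fixed {p : ℕ} [Fact p.Prime] {P : Type*} {K : Type*} [Group P]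
    [Group K] (hP : IsPGroup p P) (f : P →* K) (s : Set K) [Finite s]
    (hs : ∀ (v : P) (a : K), a ∈ s → f v * a * (f v)⁻¹ ∈ s) :
    Nat.card s ≡ Nat.card {a : K // a ∈ s ∧ ∀ v : P, f v * a * (f v)⁻¹ = a} [MOD p] := by
  let act : MulAction P ↥s :=
    { smul := fun v a => ⟨f v * a.1 * (f v)⁻¹, hs v a.1 a.2⟩
      one_smul := fun a => Subtype.ext (by
        show f 1 * a.1 * (f 1)⁻¹ = a.1
        simp)
      mul_smul := fun v w a => Subtype.ext (by
        show f (v * w) * a.1 * (f (v * w))⁻¹ = f v * (f w * a.1 * (f w)⁻¹) * (f v)⁻¹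
        simp [mul_assoc]) }
  have h1 := hP.card_modEq_card_fixedPoints ↥s
  have e : ↥(MulAction.fixedPoints P ↥s) ≃
      {a : K // a ∈ s ∧ ∀ v : P, f v * a * (f v)⁻¹ = a} :=
    { toFun := fun a => ⟨a.1.1, a.1.2, fun v => congrArg Subtype.val (a.2 v)⟩
      invFun := fun a => ⟨⟨a.1, a.2.1⟩, fun v => Subtype.ext (a.2.2 v)⟩
      left_inv := fun a => rfl
      right_inv := fun a => rfl }
  rw [← Nat.card_congr e]
  exact h1

/-- If the class size of `x` is prime to `p`, some conjugate of `x` centralizes the Sylow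
`p`-subgroup `P`. -/
theorem exists_conj_mem_centralizer_sylow {p : ℕ} [Fact p.Prime] {G : Type*} [Group G] [Finite G]
    (P : Sylow p G) (x : G) (hx : ¬ p ∣ (centralizer ({x} : Set G)).index) :
    ∃ g : G, g * x * g⁻¹ ∈ centralizer ((P : Subgroup G) : Set G) := by
  have h1 := card_modEq_card_conj_fixed P.2 (P : Subgroup G).subtype (ConjClasses.mk x).carrier
    (fun v a ha => by
      rw [ConjClasses.mem_carrier_iff_mk_eq] at ha ⊢
      rw [← ha]
      exact ConjClasses.mk_eq_mk_iff_isConj.mpr (isConj_iff.mpr ⟨(v : G)⁻¹, by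
        simp only [Subgroup.coe_subtype]; group⟩))
  rw [card_carrier_eq_index] at h1
  have h2 : Nat.card {a : G // a ∈ (ConjClasses.mk x).carrier ∧
      ∀ v : ↥(P : Subgroup G), (P : Subgroup G).subtype v * a * ((P : Subgroup G).subtype v)⁻¹ = a}
      ≠ 0 := by
    intro h0
    rw [h0] at h1
    exact hx ((Nat.modEq_zero_iff_dvd).mp h1)
  obtain ⟨⟨a, ha1, ha2⟩⟩ := (Nat.card_ne_zero.mp h2).1
  rw [ConjClasses.mem_carrier_iff_mk_eq, ConjClasses.mk_eq_mk_iff_isConj] at ha1
  obtain ⟨c, hc⟩ := isConj_iff.mp ha1.symm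
  refine ⟨c, ?_⟩
  rw [hc, mem_centralizer_iff]
  intro h hh
  have h3 := ha2 ⟨h, hh⟩
  simp only [Subgroup.coe_subtype] at h3
  calc h * a = h * a * h⁻¹ * h := by group
    _ = a * h := by rw [h3]

/-- Elements centralizing a Sylow `p`-subgroup have class size prime to `p`. -/
theorem not_dvd_index_centralizer_of_mem {p : ℕ} [Fact p.Prime] {G : Type*} [Group G] [Finite G]
    (P : Sylow p G) (c : G) (hc : c ∈ centralizer ((P : Subgroup G) : Set G)) :
    ¬ p ∣ (centralizer ({c} : Set G)).index := by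
  have hle : (P : Subgroup G) ≤ centralizer ({c} : Set G) := fun v hv => by
    rw [mem_centralizer_iff]
    intro h hh
    rw [Set.mem_singleton_iff] at hh
    subst hh
    exact (hc v hv).symm
  exact fun hd => P.not_dvd_index (hd.trans (index_dvd_of_le hle))

theorem mem_center_iff_index_centralizer {G : Type*} [Group G] (x : G) :
    x ∈ center G ↔ (centralizer ({x} : Set G)).index = 1 := by
  rw [index_eq_one]
  constructor
  · intro hx
    rw [eq_top_iff]
    intro g _
    rw [mem_centralizer_iff]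
    intro h hh
    rw [Set.mem_singleton_iff] at hh
    subst hh
    exact ((mem_center_iff.mp hx) g).symm
  · intro hx
    rw [mem_center_iff]
    intro g
    have h1 : g ∈ centralizer ({x} : Set G) := hx ▸ mem_top g
    exact ((mem_centralizer_iff.mp h1) x rfl).symm

theorem card_mul_relIndex_of_le {G : Type*} [Group G] {H K : Subgroup G} (h : H ≤ K) :
    Nat.card ↥H * H.relIndex K = Nat.card ↥K := by
  rw [← Nat.card_congr (Subgroup.subgroupOfEquivOfLe h).toEquiv]
  exact Subgroup.card_mul_index (H.subgroupOf K)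

theorem card_eq_card_add_card_diff {α : Type*} [Finite α] (s t : Set α) (h : s ⊆ t) :
    Nat.card ↥t = Nat.card ↥s + Nat.card {x : α // x ∈ t ∧ x ∉ s} := by
  have h1 := Set.ncard_sdiff_add_ncard_of_subset h (Set.toFinite t)
  rw [← Nat.card_coe_set_eq, ← Nat.card_coe_set_eq, ← Nat.card_coe_set_eq] at h1
  rw [← h1, add_comm]
  rfl

/-- The intersection of the centre with a Sylow `p`-subgroup has the order of a Sylow
`p`-subgroup of the centre. -/
theorem card_center_inf_sylow {p : ℕ} [Fact p.Prime] {G : Type*} [Group G] [Finite G]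
    (P : Sylow p G) :
    Nat.card ↥(center G ⊓ (P : Subgroup G)) = p ^ (Nat.card ↥(center G)).factorization p := by
  obtain ⟨S⟩ : Nonempty (Sylow p ↥(center G)) := inferInstance
  have hS : Nat.card ↥(S : Subgroup ↥(center G)) = p ^ (Nat.card ↥(center G)).factorization p :=
    S.card_eq_multiplicity
  obtain ⟨Q, hQ⟩ : ∃ Q : Subgroup G, Q = (S : Subgroup ↥(center G)).map (center G).subtype :=
    ⟨_, rfl⟩
  have hQc : Q ≤ center G := by
    rw [hQ]
    rintro _ ⟨z, -, rfl⟩
    exact z.2
  have hQn : Q.Normal := ⟨fun n hn g => by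
    have h1 := mem_center_iff.mp (hQc hn) g
    rw [h1, mul_inv_cancel_right]
    exact hn⟩
  have hQp : IsPGroup p ↥Q := by
    rw [hQ]
    exact S.2.map _
  have hQP : Q ≤ (P : Subgroup G) := hQp.le_sylow_of_normal P
  have hQcard : Nat.card ↥Q = Nat.card ↥(S : Subgroup ↥(center G)) := by
    rw [hQ]
    exact Subgroup.card_map_of_injective (center G).subtype_injective
  have h1 : Nat.card ↥Q ∣ Nat.card ↥(center G ⊓ (P : Subgroup G)) :=
    card_dvd_of_le (le_inf hQc hQP)
  have hp2 : IsPGroup p ↥(center G ⊓ (P : Subgroup G)) := P.2.to_le inf_le_right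
  obtain ⟨j, hj⟩ := IsPGroup.iff_card.mp hp2
  have h2 : Nat.card ↥(center G ⊓ (P : Subgroup G)) ∣ Nat.card ↥(center G) :=
    card_dvd_of_le inf_le_left
  rw [hj] at h2 h1 ⊢
  have h3 : j ≤ (Nat.card ↥(center G)).factorization p :=
    (Nat.Prime.pow_dvd_iff_le_factorization Fact.out Nat.card_pos.ne').mp h2
  rw [hQcard, hS] at h1
  exact Nat.dvd_antisymm (pow_dvd_pow p h3) h1

theorem eq_top_of_forall_sylow_le {G : Type*} [Group G] [Finite G] (K : Subgroup G)
    (h : ∀ (q : ℕ) [Fact q.Prime], ∃ Q : Sylow q G, (Q : Subgroup G) ≤ K) : K = ⊤ := by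
  rw [← index_eq_one]
  by_contra hne
  obtain ⟨q, hq, hqd⟩ := Nat.exists_prime_and_dvd hne
  have hqf : Fact q.Prime := ⟨hq⟩
  obtain ⟨Q, hQ⟩ := h q
  exact Q.not_dvd_index (hqd.trans (index_dvd_of_le hQ))

/-- In a finite nilpotent group, the number of elements of class size prime to `p` is
`|Z(H) ∩ P| * |H : P|`. -/
theorem card_pcentral_of_nilpotent {p : ℕ} [Fact p.Prime] {H : Type*} [Group H] [Finite H]
    (hH : Group.IsNilpotent H) (P : Sylow p H) :
    Nat.card {x : H // ¬ p ∣ (centralizer ({x} : Set H)).index}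
      = Nat.card ↥(center H ⊓ (P : Subgroup H)) * (P : Subgroup H).index := by
  have hnorm : ∀ (q : ℕ) (_ : Fact q.Prime) (Q : Sylow q H), (Q : Subgroup H).Normal :=
    ((Group.isNilpotent_of_finite_tfae (G := H)).out 0 3).mp hH
  have hPn : (P : Subgroup H).Normal := hnorm p inferInstance P
  obtain ⟨C, hC⟩ : ∃ C : Subgroup H, C = centralizer ((P : Subgroup H) : Set H) := ⟨_, rfl⟩
  have hB : ∀ x : H, (¬ p ∣ (centralizer ({x} : Set H)).index) ↔ x ∈ C := by
    intro x
    constructor
    · intro hx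
      obtain ⟨g, hg⟩ := exists_conj_mem_centralizer_sylow P x hx
      rw [hC, mem_centralizer_iff]
      intro v hv
      have h1 : g * v * g⁻¹ ∈ (P : Subgroup H) := hPn.conj_mem v hv g
      have h2 := (mem_centralizer_iff.mp hg) _ h1
      have h3 : g * (v * x) * g⁻¹ = g * (x * v) * g⁻¹ := by
        calc g * (v * x) * g⁻¹ = g * v * g⁻¹ * (g * x * g⁻¹) := by group
          _ = g * x * g⁻¹ * (g * v * g⁻¹) := h2
          _ = g * (x * v) * g⁻¹ := by group
      exact mul_left_cancel (mul_right_cancel h3)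
    · intro hx
      exact not_dvd_index_centralizer_of_mem P x (hC ▸ hx)
  have hcard : Nat.card {x : H // ¬ p ∣ (centralizer ({x} : Set H)).index} = Nat.card ↥C :=
    Nat.card_congr (Equiv.subtypeEquivRight hB)
  rw [hcard]
  have htop : C ⊔ (P : Subgroup H) = ⊤ := by
    apply eq_top_of_forall_sylow_le
    intro q hq
    by_cases hqp : q = p
    · subst hqp
      exact ⟨P, le_sup_right⟩
    · obtain ⟨Q⟩ : Nonempty (Sylow q H) := inferInstance
      refine ⟨Q, le_trans ?_ le_sup_left⟩
      intro y hy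
      rw [hC, mem_centralizer_iff]
      intro v hv
      have hdis : Disjoint (P : Subgroup H) (Q : Subgroup H) :=
        IsPGroup.disjoint_of_ne p q (Ne.symm hqp) _ _ P.2 Q.2
      exact Subgroup.commute_of_normal_of_disjoint _ _ hPn (hnorm q hq Q) hdis v y hv hy
  have h1 : (P : Subgroup H).relIndex C = (P : Subgroup H).index := by
    rw [← relIndex_sup_right C (P : Subgroup H), htop, relIndex_top_right]
  have h2 : (P : Subgroup H) ⊓ C = center H ⊓ (P : Subgroup H) := by
    apply le_antisymm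
    · intro z hz0
      have hz := Subgroup.mem_inf.mp hz0
      refine Subgroup.mem_inf.mpr ⟨?_, hz.1⟩
      have h3 : C ⊔ (P : Subgroup H) ≤ centralizer ({z} : Set H) := by
        apply sup_le
        · intro c hc
          rw [mem_centralizer_iff]
          intro h hh
          rw [Set.mem_singleton_iff] at hh
          subst hh
          rw [hC] at hc
          exact (mem_centralizer_iff.mp hc) h hz.1
        · intro v hv
          rw [mem_centralizer_iff]
          intro h hh
          rw [Set.mem_singleton_iff] at hh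
          subst hh
          have h4 := hz.2
          rw [hC] at h4
          exact ((mem_centralizer_iff.mp h4) v hv).symm
      rw [htop] at h3
      rw [mem_center_iff]
      intro g
      exact ((mem_centralizer_iff.mp (h3 (mem_top g))) z rfl).symm
    · intro z hz0
      have hz := Subgroup.mem_inf.mp hz0
      refine Subgroup.mem_inf.mpr ⟨hz.2, ?_⟩
      rw [hC, mem_centralizer_iff]
      intro v _
      exact (mem_center_iff.mp hz.1) v
  have h4 := card_mul_relIndex_of_le (inf_le_right : (P : Subgroup H) ⊓ C ≤ C)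
  rw [inf_relIndex_right, h1, h2] at h4
  exact h4.symm

/-- The normalizer of a subgroup normalizes its centralizer. -/
theorem conj_mem_centralizer_of_mem_normalizer {G : Type*} [Group G] (P : Subgroup G) (n c : G)
    (hn : n ∈ normalizer (P : Set G)) (hc : c ∈ centralizer (P : Set G)) :
    n * c * n⁻¹ ∈ centralizer (P : Set G) := by
  rw [mem_centralizer_iff]
  intro v hv
  have h1 : n⁻¹ * v * n ∈ P := by
    have h2 := (mem_normalizer_iff.mp hn) (n⁻¹ * v * n)
    have h3 : n * (n⁻¹ * v * n) * n⁻¹ = v := by group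
    rw [h3] at h2
    exact h2.mpr hv
  have h4 := (mem_centralizer_iff.mp hc) _ h1
  calc v * (n * c * n⁻¹) = n * (n⁻¹ * v * n * c) * n⁻¹ := by group
    _ = n * (c * (n⁻¹ * v * n)) * n⁻¹ := by rw [h4]
    _ = n * c * n⁻¹ * v := by group

/-- If `x` has class size prime to `p` and the Sylow `p`-subgroup `P` centralizes `x` modulo a
central subgroup, then `P` centralizes `x`. -/
theorem le_centralizer_of_comm_mod_center {p : ℕ} [Fact p.Prime] {G : Type*} [Group G] [Finite G]
    (P : Sylow p G) (x : G) (hx : ¬ p ∣ (centralizer ({x} : Set G)).index)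
    (hv : ∀ v ∈ (P : Subgroup G), x⁻¹ * (v * x * v⁻¹) ∈ center G) :
    (P : Subgroup G) ≤ centralizer ({x} : Set G) := by
  have hconj : ∀ (v h : G), v * h * v⁻¹ ∈ centralizer ({v * x * v⁻¹} : Set G) ↔
      h ∈ centralizer ({x} : Set G) := by
    intro v h
    simp only [mem_centralizer_iff, Set.mem_singleton_iff, forall_eq]
    constructor
    · intro e
      have h1 : v * (x * h) * v⁻¹ = v * (h * x) * v⁻¹ := by
        calc v * (x * h) * v⁻¹ = v * x * v⁻¹ * (v * h * v⁻¹) := by group
          _ = v * h * v⁻¹ * (v * x * v⁻¹) := e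
          _ = v * (h * x) * v⁻¹ := by group
      exact mul_left_cancel (mul_right_cancel h1)
    · intro e
      calc v * x * v⁻¹ * (v * h * v⁻¹) = v * (x * h) * v⁻¹ := by group
        _ = v * (h * x) * v⁻¹ := by rw [e]
        _ = v * h * v⁻¹ * (v * x * v⁻¹) := by group
  have hPM : (P : Subgroup G) ≤ normalizer ((centralizer ({x} : Set G) : Subgroup G) : Set G) := by
    intro v hvP
    rw [mem_normalizer_iff]
    intro h
    have h1 : v * x * v⁻¹ = x * (x⁻¹ * (v * x * v⁻¹)) := by group
    have h2 := hconj v h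
    rw [h1, centralizer_mul_central x _ (hv v hvP)] at h2
    exact h2.symm
  have h1 := Subgroup.relIndex_dvd_index_of_normal
    ((centralizer ({x} : Set G)).subgroupOf
      (normalizer ((centralizer ({x} : Set G) : Subgroup G) : Set G)))
    ((P : Subgroup G).subgroupOf (normalizer ((centralizer ({x} : Set G) : Subgroup G) : Set G)))
  rw [relIndex_subgroupOf hPM] at h1
  have h2 : (centralizer ({x} : Set G)).relIndex (P : Subgroup G) ∣
      (centralizer ({x} : Set G)).index :=
    h1.trans (relIndex_dvd_index_of_le le_normalizer)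
  have h3 : (centralizer ({x} : Set G)).relIndex (P : Subgroup G) ∣ Nat.card ↥(P : Subgroup G) :=
    relIndex_dvd_card _ _
  obtain ⟨k, hk⟩ := IsPGroup.iff_card.mp P.2
  rw [hk] at h3
  obtain ⟨j, -, hj⟩ := (Nat.dvd_prime_pow Fact.out).mp h3
  rcases Nat.eq_zero_or_pos j with hj0 | hj0
  · rw [hj0, pow_zero] at hj
    exact relIndex_eq_one.mp hj
  · exfalso
    apply hx
    refine dvd_trans ?_ h2
    rw [hj]
    exact dvd_pow_self p hj0.ne'

/-- **Counting criterion for normality of a Sylow subgroup**: if the number of elements whose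
class size is prime to `p` equals `|Z(G) ∩ P| * |G : P|`, then `P` is normal. -/
theorem sylow_normal_of_card_eq {p : ℕ} [Fact p.Prime] {G : Type*} [Group G] [Finite G]
    (P : Sylow p G)
    (h : Nat.card {x : G // ¬ p ∣ (centralizer ({x} : Set G)).index}
      = Nat.card ↥(center G ⊓ (P : Subgroup G)) * (P : Subgroup G).index) :
    (P : Subgroup G).Normal := by
  obtain ⟨N, hN⟩ : ∃ N : Subgroup G, N = center G ⊓ (P : Subgroup G) := ⟨_, rfl⟩
  obtain ⟨C, hC⟩ : ∃ C : Subgroup G, C = centralizer ((P : Subgroup G) : Set G) := ⟨_, rfl⟩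
  obtain ⟨B, hB⟩ : ∃ B : Set G, B = {x : G | ¬ p ∣ (centralizer ({x} : Set G)).index} :=
    ⟨_, rfl⟩
  have hBmem : ∀ x : G, x ∈ B ↔ ¬ p ∣ (centralizer ({x} : Set G)).index := by
    intro x
    rw [hB]
    rfl
  have hNc : N ≤ center G := hN ▸ inf_le_left
  have hNP : N ≤ (P : Subgroup G) := hN ▸ inf_le_right
  have hNn : N.Normal := ⟨fun n hn g => by
    have h1 := mem_center_iff.mp (hNc hn) g
    rw [h1, mul_inv_cancel_right]
    exact hn⟩
  have hNC : N ≤ C := by
    intro n hn
    rw [hC, mem_centralizer_iff]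
    intro v _
    exact (mem_center_iff.mp (hNc hn)) v
  have hCB : ∀ c ∈ C, c ∈ B := fun c hc =>
    (hBmem c).mpr (not_dvd_index_centralizer_of_mem P c (hC ▸ hc))
  have hBcard : Nat.card ↥B = Nat.card ↥N * (P : Subgroup G).index := by
    rw [hB, hN]
    exact h
  -- Step (a): `P ⊓ C = N`.
  have hpre : (QuotientGroup.mk : G → G ⧸ N) ⁻¹' ((QuotientGroup.mk : G → G ⧸ N) '' B) = B := by
    apply Set.Subset.antisymm
    · rintro x ⟨b, hb, hbx⟩
      have h1 : b⁻¹ * x ∈ N := QuotientGroup.eq.mp hbx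
      have h2 : x = b * (b⁻¹ * x) := by group
      rw [hBmem] at hb ⊢
      rw [h2, centralizer_mul_central b _ (hNc h1)]
      exact hb
    · exact Set.subset_preimage_image _ _
  have hcard1 : Nat.card ↥B =
      Nat.card ↥N * Nat.card ↥((QuotientGroup.mk : G → G ⧸ N) '' B) := by
    have h1 := QuotientGroup.card_preimage_mk N ((QuotientGroup.mk : G → G ⧸ N) '' B)
    rw [hpre] at h1
    exact h1
  have hcard2 : Nat.card ↥((QuotientGroup.mk : G → G ⧸ N) '' B) = (P : Subgroup G).index := by
    have hpos : 0 < Nat.card ↥N := Nat.card_pos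
    exact Nat.eq_of_mul_eq_mul_left hpos (hcard1.symm.trans hBcard)
  have hmod := card_modEq_card_conj_fixed P.2
    ((QuotientGroup.mk' N).comp (P : Subgroup G).subtype)
    ((QuotientGroup.mk : G → G ⧸ N) '' B) (by
      rintro v _ ⟨b, hb, rfl⟩
      refine ⟨(v : G) * b * (v : G)⁻¹, ?_, by simp⟩
      rw [hBmem] at hb ⊢
      rw [index_centralizer_conj]
      exact hb)
  have hfix : ∀ a : G ⧸ N, (a ∈ (QuotientGroup.mk : G → G ⧸ N) '' B ∧
      ∀ v : ↥(P : Subgroup G),
        ((QuotientGroup.mk' N).comp (P : Subgroup G).subtype) v * a *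
          (((QuotientGroup.mk' N).comp (P : Subgroup G).subtype) v)⁻¹ = a) ↔
      a ∈ C.map (QuotientGroup.mk' N) := by
    intro a
    constructor
    · rintro ⟨⟨x, hx, rfl⟩, hv⟩
      refine ⟨x, ?_, rfl⟩
      have hle : (P : Subgroup G) ≤ centralizer ({x} : Set G) := by
        apply le_centralizer_of_comm_mod_center P x ((hBmem x).mp hx)
        intro v hvP
        apply hNc
        have h1 := hv ⟨v, hvP⟩
        have h2 : ((x : G) : G ⧸ N) = ((v * x * v⁻¹ : G) : G ⧸ N) := by
          rw [← h1]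
          simp
        exact QuotientGroup.eq.mp h2
      show x ∈ C
      rw [hC, mem_centralizer_iff]
      intro v hvP
      exact ((mem_centralizer_iff.mp (hle hvP)) x rfl).symm
    · rintro ⟨c, hc, rfl⟩
      refine ⟨⟨c, hCB c hc, rfl⟩, fun v => ?_⟩
      have hc' : c ∈ centralizer ((P : Subgroup G) : Set G) := hC ▸ (show c ∈ C from hc)
      have h1 : (v : G) * c * (v : G)⁻¹ = c := by
        have h2 := (mem_centralizer_iff.mp hc') v v.2
        rw [h2, mul_inv_cancel_right]
      calc ((QuotientGroup.mk' N).comp (P : Subgroup G).subtype) v * (QuotientGroup.mk' N) c *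
            (((QuotientGroup.mk' N).comp (P : Subgroup G).subtype) v)⁻¹
          = (QuotientGroup.mk' N) ((v : G) * c * (v : G)⁻¹) := by simp
        _ = (QuotientGroup.mk' N) c := by rw [h1]
  have hmod2 : (P : Subgroup G).index ≡ Nat.card ↥(C.map (QuotientGroup.mk' N)) [MOD p] := by
    rw [← hcard2, ← Nat.card_congr (Equiv.subtypeEquivRight hfix)]
    exact hmod
  have hnd : ¬ p ∣ Nat.card ↥(C.map (QuotientGroup.mk' N)) := fun hd =>
    P.not_dvd_index ((hmod2.dvd_iff dvd_rfl).mpr hd)
  have hPC : (P : Subgroup G) ⊓ C = N := by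
    apply le_antisymm
    · have h1 : IsPGroup p ↥(((P : Subgroup G) ⊓ C).map (QuotientGroup.mk' N)) :=
        (P.2.to_le inf_le_left).map _
      have h2 : Nat.card ↥(((P : Subgroup G) ⊓ C).map (QuotientGroup.mk' N)) ∣
          Nat.card ↥(C.map (QuotientGroup.mk' N)) :=
        card_dvd_of_le (map_mono inf_le_right)
      rcases h1.card_eq_or_dvd with h3 | h3
      · have h4 := Subgroup.card_eq_one.mp h3
        rw [Subgroup.map_eq_bot_iff, QuotientGroup.ker_mk'] at h4
        exact h4
      · exact absurd (h3.trans h2) hnd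
    · exact le_inf hNP hNC
  -- Step (b): counting.
  obtain ⟨Nm, hNm⟩ : ∃ Nm : Subgroup G, Nm = normalizer ((P : Subgroup G) : Set G) := ⟨_, rfl⟩
  have hPNm : (P : Subgroup G) ≤ Nm := hNm ▸ le_normalizer
  have hCNm : C ≤ Nm := by
    rw [hC, hNm]
    exact centralizer_le_normalizer _
  have hex : ∀ x : G, x ∈ B → ∃ q : G ⧸ Nm, q.out⁻¹ * x * q.out ∈ C := by
    intro x hx
    obtain ⟨g, hg⟩ := exists_conj_mem_centralizer_sylow P x ((hBmem x).mp hx)
    obtain ⟨n, hn⟩ := QuotientGroup.mk_out_eq_mul Nm g⁻¹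
    refine ⟨((g⁻¹ : G) : G ⧸ Nm), ?_⟩
    rw [hn]
    have h1 : (g⁻¹ * (n : G))⁻¹ * x * (g⁻¹ * (n : G)) = (n : G)⁻¹ * (g * x * g⁻¹) * ((n : G)⁻¹)⁻¹ := by
      group
    rw [h1, hC]
    apply conj_mem_centralizer_of_mem_normalizer
    · rw [← hNm]
      exact Nm.inv_mem n.2
    · exact hg
  choose! qf hqf using hex
  have hinj : Function.Injective (fun x : {x : G // x ∈ B ∧ x ∉ (N : Set G)} =>
      ((qf x.1, ⟨(qf x.1).out⁻¹ * x.1 * (qf x.1).out, hqf x.1 x.2.1, fun hn => x.2.2 (by
        have h1 := hNn.conj_mem _ hn (qf x.1).out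
        have h2 : (qf x.1).out * ((qf x.1).out⁻¹ * x.1 * (qf x.1).out) * (qf x.1).out⁻¹ = x.1 := by
          group
        rw [h2] at h1
        exact h1)⟩) : (G ⧸ Nm) × {c : G // c ∈ (C : Set G) ∧ c ∉ (N : Set G)})) := by
    intro x y hxy
    have h1 : qf x.1 = qf y.1 := congrArg Prod.fst hxy
    have h2 : (qf x.1).out⁻¹ * x.1 * (qf x.1).out = (qf y.1).out⁻¹ * y.1 * (qf y.1).out :=
      congrArg (fun z => (z.2 : G)) hxy
    rw [← h1] at h2
    exact Subtype.ext (mul_left_cancel (mul_right_cancel h2))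
  have hle := Nat.card_le_card_of_injective _ hinj
  rw [Nat.card_prod] at hle
  have hBsplit := card_eq_card_add_card_diff (N : Set G) B (fun n hn => hCB n (hNC hn))
  have hCsplit := card_eq_card_add_card_diff (N : Set G) (C : Set G) (fun n hn => hNC hn)
  have hCcard := card_mul_relIndex_of_le (inf_le_right : (P : Subgroup G) ⊓ C ≤ C)
  rw [inf_relIndex_right, hPC] at hCcard
  have hrs : (P : Subgroup G).relIndex C ∣ (P : Subgroup G).relIndex Nm := by
    have h1 := Subgroup.relIndex_dvd_index_of_normal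
      ((P : Subgroup G).subgroupOf (normalizer ((P : Subgroup G) : Set G)))
      (C.subgroupOf (normalizer ((P : Subgroup G) : Set G)))
    rw [relIndex_subgroupOf (hNm ▸ hCNm)] at h1
    rw [hNm]
    exact h1
  have hsa : (P : Subgroup G).relIndex Nm * Nm.index = (P : Subgroup G).index :=
    relIndex_mul_index hPNm
  have hidx : (P : Subgroup G).index ≠ 0 := Subgroup.index_ne_zero_of_finite
  have hs0 : 0 < (P : Subgroup G).relIndex Nm := by
    rcases Nat.eq_zero_or_pos ((P : Subgroup G).relIndex Nm) with h0 | h0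
    · rw [h0, zero_mul] at hsa
      exact absurd hsa.symm hidx
    · exact h0
  have hrs' : (P : Subgroup G).relIndex C ≤ (P : Subgroup G).relIndex Nm := Nat.le_of_dvd hs0 hrs
  have hNpos : 0 < Nat.card ↥N := Nat.card_pos
  have hone : Nm.index ≤ 1 := by
    obtain ⟨a, ha⟩ : ∃ a : ℕ, a = Nm.index := ⟨_, rfl⟩
    obtain ⟨s, hs⟩ : ∃ s : ℕ, s = (P : Subgroup G).relIndex Nm := ⟨_, rfl⟩
    obtain ⟨r, hr⟩ : ∃ r : ℕ, r = (P : Subgroup G).relIndex C := ⟨_, rfl⟩
    obtain ⟨nN, hnN⟩ : ∃ nN : ℕ, nN = Nat.card ↥N := ⟨_, rfl⟩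
    obtain ⟨d, hd⟩ : ∃ d : ℕ, d = Nat.card {c : G // c ∈ (C : Set G) ∧ c ∉ (N : Set G)} :=
      ⟨_, rfl⟩
    obtain ⟨b, hb⟩ : ∃ b : ℕ, b = Nat.card {x : G // x ∈ B ∧ x ∉ (N : Set G)} := ⟨_, rfl⟩
    have hNcoe : Nat.card ↥(N : Set G) = nN := hnN.symm ▸ rfl
    have hCcoe : Nat.card ↥(C : Set G) = Nat.card ↥C := rfl
    rw [hNcoe, ← hb] at hBsplit
    rw [hNcoe, ← hd, hCcoe, ← hCcard, ← hr, ← hnN] at hCsplit
    rw [← hb, ← hd] at hle
    have hle' : b ≤ a * d := by rw [ha]; exact hle
    rw [← hnN, ← hsa, ← hs, ← ha] at hBcard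
    rw [← hr, ← hs] at hrs'
    rw [← hnN] at hNpos
    rw [← ha]
    have e1 : a * d + a * nN = a * nN * r := by
      have : a * (nN + d) = a * (nN * r) := by rw [hCsplit]
      linarith [mul_assoc a nN r]
    have e2 : a * nN * r ≤ a * nN * s := Nat.mul_le_mul_left _ hrs'
    have e3 : nN * (s * a) = a * nN * s := by ring
    have e4 : a * nN ≤ 1 * nN := by
      rw [hBcard] at hBsplit
      linarith
    exact Nat.le_of_mul_le_mul_right e4 hNpos
  have hNmtop : Nm = ⊤ := by
    rw [← index_eq_one]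
    have h1 : Nm.index ≠ 0 := Subgroup.index_ne_zero_of_finite
    omega
  rw [hNm] at hNmtop
  exact normalizer_eq_top_iff.mp hNmtop

end Cfsg.Agent.H69
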