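/-
helper69: the hypercentre of a finite group is the set of elements generating a nilpotent subgroup with every
element.
-/
import Mathlib

set_option autoImplicit false

namespace Cfsg.Agent.H69

universe u

/-- The upper central series of `G` meets a subgroup `K` inside the upper central series of `K`. -/
theorem upperCentralSeries_inf_le {G : Type*} [Group G] (K : Subgroup G) (n : ℕ) :
    ∀ y : K, (y : G) ∈ Subgroup.upperCentralSeries G n → y ∈ Subgroup.upperCentralSeries K n := by
  induction n with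
  | zero =>
    intro y hy
    rw [Subgroup.upperCentralSeries_zero, Subgroup.mem_bot] at hy ⊢
    exact Subtype.ext hy
  | succ n ih =>
    intro y hy
    rw [Subgroup.mem_upperCentralSeries_succ_iff] at hy ⊢
    intro z
    apply ih
    exact hy z

/-- If `g` lies in a term of the upper central series, then `⟨x, g⟩` is nilpotent. -/
theorem isNilpotent_closure_pair_of_mem {G : Type*} [Group G] (x g : G) (m : ℕ)
    (hg : g ∈ Subgroup.upperCentralSeries G m) :
    Group.IsNilpotent ↥(Subgroup.closure ({x, g} : Set G)) := by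
  obtain ⟨K, hK⟩ : ∃ K : Subgroup G, K = Subgroup.closure ({x, g} : Set G) := ⟨_, rfl⟩
  rw [← hK]
  have hxK : x ∈ K := by rw [hK]; exact Subgroup.subset_closure (by simp)
  have hgK : g ∈ K := by rw [hK]; exact Subgroup.subset_closure (by simp)
  obtain ⟨N, hN⟩ : ∃ N : Subgroup K, N = Subgroup.upperCentralSeries K m := ⟨_, rfl⟩
  have hNn : N.Normal := by rw [hN]; infer_instance
  have hgN : (⟨g, hgK⟩ : K) ∈ N := by
    rw [hN]
    exact upperCentralSeries_inf_le K m ⟨g, hgK⟩ hg
  -- every element of `K` is a power of `x` modulo `N`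
  have hpow : ∀ (y : G) (hy : y ∈ K), ∃ i : ℤ,
      (QuotientGroup.mk ⟨y, hy⟩ : K ⧸ N) = (QuotientGroup.mk ⟨x, hxK⟩ : K ⧸ N) ^ i := by
    intro y hy
    have hy' : y ∈ Subgroup.closure ({x, g} : Set G) := hK ▸ hy
    induction hy' using Subgroup.closure_induction with
    | mem y hy0 =>
      rcases hy0 with rfl | hy0
      · exact ⟨1, (zpow_one _).symm⟩
      · have hy1 : y = g := hy0
        subst hy1
        exact ⟨0, by rw [zpow_zero]; exact (QuotientGroup.eq_one_iff _).mpr hgN⟩
    | one => exact ⟨0, by rw [zpow_zero]; rfl⟩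
    | mul a b ha hb iha ihb =>
      have haK : a ∈ K := hK ▸ ha
      have hbK : b ∈ K := hK ▸ hb
      obtain ⟨i, hi⟩ := iha haK
      obtain ⟨j, hj⟩ := ihb hbK
      refine ⟨i + j, ?_⟩
      have h1 : (⟨a * b, hy⟩ : K) = ⟨a, haK⟩ * ⟨b, hbK⟩ := rfl
      rw [h1, QuotientGroup.mk_mul, hi, hj, zpow_add]
    | inv a ha iha =>
      have haK : a ∈ K := hK ▸ ha
      obtain ⟨i, hi⟩ := iha haK
      refine ⟨-i, ?_⟩
      have h1 : (⟨a⁻¹, hy⟩ : K) = (⟨a, haK⟩ : K)⁻¹ := rfl
      rw [h1, QuotientGroup.mk_inv, hi, zpow_neg]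
  refine ⟨⟨m + 1, ?_⟩⟩
  rw [eq_top_iff]
  intro k _
  rw [Subgroup.mem_upperCentralSeries_succ_iff]
  intro z
  rw [← hN]
  obtain ⟨i, hi⟩ := hpow k.1 k.2
  obtain ⟨j, hj⟩ := hpow z.1 z.2
  rw [← QuotientGroup.eq_one_iff, commutatorElement_def, QuotientGroup.mk_mul, QuotientGroup.mk_mul,
    QuotientGroup.mk_mul, QuotientGroup.mk_inv, QuotientGroup.mk_inv]
  have hk : (QuotientGroup.mk k : K ⧸ N) = (QuotientGroup.mk ⟨x, hxK⟩ : K ⧸ N) ^ i := hi
  have hz : (QuotientGroup.mk z : K ⧸ N) = (QuotientGroup.mk ⟨x, hxK⟩ : K ⧸ N) ^ j := hj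
  rw [hk, hz, ← zpow_add, ← zpow_neg, ← zpow_add, ← zpow_neg, ← zpow_add]
  have : i + j + -i + -j = 0 := by ring
  rw [this, zpow_zero]

/-- In a finite nilpotent group a `p`-element and a `q`-element commute (`p ≠ q`). -/
theorem commute_of_prime_powers {K : Type*} [Group K] [Finite K] [Group.IsNilpotent K] (p q : ℕ)
    [Fact p.Prime] [Fact q.Prime] (hpq : p ≠ q) (a b : K) (i j : ℕ) (ha : a ^ p ^ i = 1) (hb : b ^ q ^ j = 1) :
    a * b = b * a := by
  have hza : IsPGroup p (Subgroup.zpowers a) := by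
    rintro ⟨y, hy⟩
    obtain ⟨k, rfl⟩ := Subgroup.mem_zpowers_iff.mp hy
    refine ⟨i, Subtype.ext ?_⟩
    show (a ^ k) ^ p ^ i = 1
    rw [← zpow_natCast, ← zpow_mul, mul_comm, zpow_mul, zpow_natCast, ha, one_zpow]
  have hzb : IsPGroup q (Subgroup.zpowers b) := by
    rintro ⟨y, hy⟩
    obtain ⟨k, rfl⟩ := Subgroup.mem_zpowers_iff.mp hy
    refine ⟨j, Subtype.ext ?_⟩
    show (b ^ k) ^ q ^ j = 1
    rw [← zpow_natCast, ← zpow_mul, mul_comm, zpow_mul, zpow_natCast, hb, one_zpow]
  obtain ⟨P, hP⟩ := hza.exists_le_sylow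
  obtain ⟨Q, hQ⟩ := hzb.exists_le_sylow
  have hPn : (P : Subgroup K).Normal := inferInstance
  have hQn : (Q : Subgroup K).Normal := inferInstance
  exact Subgroup.commute_of_normal_of_disjoint _ _ hPn hQn
    (IsPGroup.disjoint_of_ne p q hpq _ _ P.2 Q.2) a b (hP (Subgroup.mem_zpowers a)) (hQ (Subgroup.mem_zpowers b))

/-- A nontrivial normal subgroup of a nilpotent group contains a nontrivial central element. -/
theorem exists_central_of_normal_of_nilpotent {P : Type*} [Group P] [Group.IsNilpotent P] (N : Subgroup P)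
    [N.Normal] (hN : N ≠ ⊥) : ∃ z ∈ N, z ≠ 1 ∧ z ∈ Subgroup.center P := by
  classical
  obtain ⟨c, hc⟩ := (Group.IsNilpotent.nilpotent' : ∃ n : ℕ, Subgroup.upperCentralSeries P n = ⊤)
  have hex : ∃ n : ℕ, N ⊓ Subgroup.upperCentralSeries P n ≠ ⊥ := ⟨c, by rw [hc, inf_top_eq]; exact hN⟩
  have hmin : ∀ m : ℕ, m < Nat.find hex → ¬ (N ⊓ Subgroup.upperCentralSeries P m ≠ ⊥) :=
    fun m hm => Nat.find_min hex hm
  have hspec := Nat.find_spec hex
  obtain ⟨n, hn⟩ : ∃ n, Nat.find hex = n := ⟨_, rfl⟩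
  rw [hn] at hmin hspec
  cases n with
  | zero =>
    exfalso
    apply hspec
    rw [Subgroup.upperCentralSeries_zero, inf_bot_eq]
  | succ n =>
    obtain ⟨⟨z, hz⟩, hz1'⟩ := (Subgroup.ne_bot_iff_exists_ne_one).mp hspec
    have hz1 : z ≠ 1 := fun h => hz1' (Subtype.ext h)
    have hzN : (z : P) ∈ N := hz.1
    have hzZ : (z : P) ∈ Subgroup.upperCentralSeries P (n + 1) := hz.2
    have hbot : N ⊓ Subgroup.upperCentralSeries P n = ⊥ := by
      by_contra h
      exact hmin n (Nat.lt_succ_self n) h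
    refine ⟨z, hzN, hz1, ?_⟩
    rw [Subgroup.mem_center_iff]
    intro y
    have h1 : z * y * z⁻¹ * y⁻¹ ∈ Subgroup.upperCentralSeries P n :=
      Subgroup.mem_upperCentralSeries_succ_iff.mp hzZ y
    have h2 : z * y * z⁻¹ * y⁻¹ ∈ N := by
      have h3 : y * z⁻¹ * y⁻¹ ∈ N := Subgroup.Normal.conj_mem inferInstance _ (N.inv_mem hzN) y
      have h4 : z * y * z⁻¹ * y⁻¹ = z * (y * z⁻¹ * y⁻¹) := by group
      rw [h4]
      exact N.mul_mem hzN h3
    have h5 : z * y * z⁻¹ * y⁻¹ ∈ N ⊓ Subgroup.upperCentralSeries P n := ⟨h2, h1⟩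
    rw [hbot, Subgroup.mem_bot] at h5
    have h6 : y * z = (z * y * z⁻¹ * y⁻¹)⁻¹ * (z * y) := by group
    rw [h6, h5, inv_one, one_mul]

/-- A subgroup containing a Sylow `r`-subgroup for every prime `r` is the whole group. -/
theorem eq_top_of_forall_sylow_le_hc {G : Type*} [Group G] [Finite G] (C : Subgroup G)
    (h : ∀ (r : ℕ) [Fact r.Prime], ∃ R : Sylow r G, (R : Subgroup G) ≤ C) : C = ⊤ := by
  apply Subgroup.eq_top_of_card_eq
  apply Nat.dvd_antisymm (Subgroup.card_subgroup_dvd_card C)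
  have hG0 : Nat.card G ≠ 0 := Nat.card_pos.ne'
  have hC0 : Nat.card C ≠ 0 := Nat.card_pos.ne'
  rw [← Nat.factorization_le_iff_dvd hG0 hC0]
  intro r
  by_cases hr : r.Prime
  · have : Fact r.Prime := ⟨hr⟩
    obtain ⟨R, hR⟩ := h r
    have h1 : Nat.card (R : Subgroup G) ∣ Nat.card C := Subgroup.card_dvd_of_le hR
    rw [Sylow.card_eq_multiplicity] at h1
    exact (hr.pow_dvd_iff_le_factorization hC0).mp h1
  · rw [Nat.factorization_eq_zero_of_not_prime _ hr]
    exact Nat.zero_le _

/-- Key step: in a finite group with trivial centre, an element generating a nilpotent subgroup with every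
element is trivial. -/
theorem eq_one_of_pairs_nilpotent_of_center_eq_bot {G : Type*} [Group G] [Finite G] (g : G)
    (hg : ∀ x : G, Group.IsNilpotent ↥(Subgroup.closure ({x, g} : Set G)))
    (hZ : Subgroup.center G = ⊥) : g = 1 := by
  classical
  by_contra hg1
  have ho1 : orderOf g ≠ 1 := fun h => hg1 (orderOf_eq_one_iff.mp h)
  have ho0 : orderOf g ≠ 0 := (orderOf_pos g).ne'
  obtain ⟨p, hp, hpo⟩ := Nat.exists_prime_and_dvd ho1
  have : Fact p.Prime := ⟨hp⟩
  obtain ⟨g', hg'⟩ : ∃ g' : G, g' = g ^ (orderOf g / p) := ⟨_, rfl⟩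
  have hg'o : orderOf g' = p := by rw [hg']; exact orderOf_pow_orderOf_div ho0 hpo
  have hg'p : g' ^ p = 1 := by rw [← hg'o]; exact pow_orderOf_eq_one g'
  have hg'1 : g' ≠ 1 := by
    intro h
    rw [h, orderOf_one] at hg'o
    exact hp.one_lt.ne hg'o
  -- `g'` commutes with all `q`-elements, `q ≠ p`
  have hcomm : ∀ (q : ℕ), q.Prime → q ≠ p → ∀ (x : G) (j : ℕ), x ^ q ^ j = 1 → x * g' = g' * x := by
    intro q hq hqp x j hx
    have : Fact q.Prime := ⟨hq⟩
    have := hg x
    have hxK : x ∈ Subgroup.closure ({x, g} : Set G) := Subgroup.subset_closure (by simp)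
    have hgK : g ∈ Subgroup.closure ({x, g} : Set G) := Subgroup.subset_closure (by simp)
    have hg'K : g' ∈ Subgroup.closure ({x, g} : Set G) := by
      rw [hg']
      exact Subgroup.pow_mem _ hgK _
    have h1 := commute_of_prime_powers q p hqp
      (⟨x, hxK⟩ : ↥(Subgroup.closure ({x, g} : Set G))) ⟨g', hg'K⟩ j 1
      (Subtype.ext hx) (Subtype.ext (by rw [pow_one]; exact hg'p))
    exact congrArg Subtype.val h1
  obtain ⟨T, hT⟩ : ∃ T : Set G, T = {x : G | ∃ q : ℕ, q.Prime ∧ q ≠ p ∧ ∃ j : ℕ, x ^ q ^ j = 1} := ⟨_, rfl⟩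
  have hTconj : ∀ x ∈ T, ∀ h : G, h * x * h⁻¹ ∈ T := by
    intro x hx h
    rw [hT] at hx ⊢
    obtain ⟨q, hq, hqp, j, hj⟩ := hx
    refine ⟨q, hq, hqp, j, ?_⟩
    rw [conj_pow, hj, mul_one, mul_inv_cancel]
  obtain ⟨A, hA⟩ : ∃ A : Subgroup G, A = Subgroup.centralizer T := ⟨_, rfl⟩
  have hAmem : ∀ y : G, y ∈ A ↔ ∀ x ∈ T, x * y = y * x := by
    intro y
    rw [hA, Subgroup.mem_centralizer_iff]
  have hAn : A.Normal := by
    constructor
    intro y hy h
    rw [hAmem] at hy ⊢
    intro x hx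
    have h1 := hy (h⁻¹ * x * h⁻¹⁻¹) (hTconj x hx h⁻¹)
    have h2 : x * (h * y * h⁻¹) = h * ((h⁻¹ * x * h⁻¹⁻¹) * y) * h⁻¹ := by group
    rw [h2, h1]
    group
  have hg'A : g' ∈ A := by
    rw [hAmem]
    intro x hx
    rw [hT] at hx
    obtain ⟨q, hq, hqp, j, hj⟩ := hx
    exact hcomm q hq hqp x j hj
  -- a Sylow `p`-subgroup containing `g'`
  have hzg' : IsPGroup p (Subgroup.zpowers g') := by
    rintro ⟨y, hy⟩
    obtain ⟨k, rfl⟩ := Subgroup.mem_zpowers_iff.mp hy
    refine ⟨1, Subtype.ext ?_⟩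
    show (g' ^ k) ^ p ^ 1 = 1
    rw [pow_one, ← zpow_natCast, ← zpow_mul, mul_comm, zpow_mul, zpow_natCast, hg'p, one_zpow]
  obtain ⟨P, hP⟩ := hzg'.exists_le_sylow
  have hg'P : g' ∈ (P : Subgroup G) := hP (Subgroup.mem_zpowers g')
  have : Group.IsNilpotent ↥(P : Subgroup G) := P.2.isNilpotent
  have : (A.subgroupOf (P : Subgroup G)).Normal := hAn.subgroupOf _
  have hne : A.subgroupOf (P : Subgroup G) ≠ ⊥ := by
    intro h
    have h1 : (⟨g', hg'P⟩ : ↥(P : Subgroup G)) ∈ A.subgroupOf (P : Subgroup G) :=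
      Subgroup.mem_subgroupOf.mpr hg'A
    rw [h, Subgroup.mem_bot] at h1
    exact hg'1 (congrArg Subtype.val h1)
  obtain ⟨z, hzA, hz1, hzZ⟩ := exists_central_of_normal_of_nilpotent (A.subgroupOf (P : Subgroup G)) hne
  have hzA' : (z : G) ∈ A := Subgroup.mem_subgroupOf.mp hzA
  have hzP : ∀ y ∈ (P : Subgroup G), y * (z : G) = (z : G) * y := by
    intro y hy
    have h1 := Subgroup.mem_center_iff.mp hzZ ⟨y, hy⟩
    exact congrArg Subtype.val h1
  -- the centralizer of `z` is everything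
  have htop : Subgroup.centralizer ({(z : G)} : Set G) = ⊤ := by
    apply eq_top_of_forall_sylow_le_hc
    intro r hr
    by_cases hrp : r = p
    · subst hrp
      refine ⟨P, ?_⟩
      intro y hy
      rw [Subgroup.mem_centralizer_iff]
      intro w hw
      rw [Set.mem_singleton_iff.mp hw]
      exact (hzP y hy).symm
    · obtain ⟨R⟩ : Nonempty (Sylow r G) := inferInstance
      refine ⟨R, ?_⟩
      intro y hy
      rw [Subgroup.mem_centralizer_iff]
      intro w hw
      rw [Set.mem_singleton_iff.mp hw]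
      obtain ⟨k, hk⟩ := R.2 ⟨y, hy⟩
      have hyT : y ∈ T := by
        rw [hT]
        exact ⟨r, hr.out, hrp, k, congrArg Subtype.val hk⟩
      exact ((hAmem _).mp hzA' y hyT).symm
  have hzc : (z : G) ∈ Subgroup.center G := by
    rw [Subgroup.mem_center_iff]
    intro y
    have h1 : y ∈ Subgroup.centralizer ({(z : G)} : Set G) := htop ▸ Subgroup.mem_top y
    rw [Subgroup.mem_centralizer_iff] at h1
    exact (h1 (z : G) (Set.mem_singleton _)).symm
  rw [hZ, Subgroup.mem_bot] at hzc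
  exact hz1 (Subtype.ext hzc)

/-- An element generating a nilpotent subgroup with every element lies in the hypercentre. -/
theorem mem_hypercenter_of_pairs_nilpotent : ∀ (n : ℕ) (G : Type u) [Group G] [Finite G], Nat.card G = n →
    ∀ g : G, (∀ x : G, Group.IsNilpotent ↥(Subgroup.closure ({x, g} : Set G))) →
      g ∈ ⨆ k : ℕ, Subgroup.upperCentralSeries G k := by
  intro n
  induction n using Nat.strong_induction_on with
  | _ n ih =>
    intro G _ _ hn g hg
    by_cases hZ : Subgroup.center G = ⊥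
    · rw [eq_one_of_pairs_nilpotent_of_center_eq_bot g hg hZ]
      exact Subgroup.one_mem _
    · have hcard : Nat.card (G ⧸ Subgroup.center G) < n := by
        rw [← hn, Subgroup.card_eq_card_quotient_mul_card_subgroup (Subgroup.center G)]
        apply lt_mul_of_one_lt_right Nat.card_pos
        exact (Subgroup.one_lt_card_iff_ne_bot _).mpr hZ
      have hq : ∀ x : G ⧸ Subgroup.center G, Group.IsNilpotent
          ↥(Subgroup.closure ({x, (QuotientGroup.mk g : G ⧸ Subgroup.center G)} : Set (G ⧸ Subgroup.center G))) := by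
        intro x
        induction x using QuotientGroup.induction_on with
        | H x =>
          have := hg x
          have h1 : Group.IsNilpotent ↥((Subgroup.closure ({x, g} : Set G)).map
              (QuotientGroup.mk' (Subgroup.center G))) :=
            Group.nilpotent_of_surjective _
              ((QuotientGroup.mk' (Subgroup.center G)).subgroupMap_surjective (Subgroup.closure ({x, g} : Set G)))
          rw [MonoidHom.map_closure, Set.image_pair] at h1
          exact h1
      have h2 := ih _ hcard (G ⧸ Subgroup.center G) rfl (QuotientGroup.mk g) hq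
      obtain ⟨k, hk⟩ := (Subgroup.mem_iSup_of_directed
        (Subgroup.upperCentralSeries_mono (G ⧸ Subgroup.center G)).directed_le).mp h2
      have h3 : g ∈ Subgroup.upperCentralSeries G k.succ := by
        rw [← Subgroup.comap_upperCentralSeries_quotient_center]
        exact hk
      exact Subgroup.mem_iSup_of_mem k.succ h3

/-- The hypercentre of a finite group is the set of elements generating a nilpotent subgroup with every
element. -/
theorem pairs_nilpotent_iff_mem_hypercenter {G : Type u} [Group G] [Finite G] (g : G) :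
    (∀ x : G, Group.IsNilpotent ↥(Subgroup.closure ({x, g} : Set G))) ↔
      g ∈ ⨆ n : ℕ, Subgroup.upperCentralSeries G n := by
  constructor
  · exact mem_hypercenter_of_pairs_nilpotent _ G rfl g
  · intro h x
    obtain ⟨m, hm⟩ := (Subgroup.mem_iSup_of_directed
      (Subgroup.upperCentralSeries_mono G).directed_le).mp h
    exact isNilpotent_closure_pair_of_mem x g m hm

end Cfsg.Agent.H69
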