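import Mathlib
import Cfsg.Prelude.Def_Sporadic_a

set_option autoImplicit false
set_option maxHeartbeats 400000

/-!
Piece S0420-AUTISO: isomorphic set systems have isomorphic automorphism groups.
-/

namespace Cfsg.Agent.H69.M11

open scoped Pointwise

lemma permCongr_smul_image {α β : Type*} [DecidableEq α] [DecidableEq β] (e : α ≃ β)
    (σ : Equiv.Perm α) (b : Finset α) : (e.permCongr σ) • (b.image e) = (σ • b).image e := by
  ext y
  simp only [Finset.mem_smul_finset, Finset.mem_image, Equiv.Perm.smul_def]
  constructor
  · rintro ⟨_, ⟨a, ha, rfl⟩, rfl⟩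
    exact ⟨σ a, ⟨a, ha, rfl⟩, by simp⟩
  · rintro ⟨_, ⟨a, ha, rfl⟩, rfl⟩
    exact ⟨e a, ⟨a, ha, rfl⟩, by simp⟩

theorem aut_iso_of_iso {α β : Type*} [DecidableEq α] [DecidableEq β] (B : Set (Finset α))
    (B' : Set (Finset β)) (h : Cfsg.SetSystemIso B B') :
    Nonempty (Cfsg.setSystemAut B ≃* Cfsg.setSystemAut B') := by
  obtain ⟨e, he⟩ := h
  have hinj : Function.Injective (fun b : Finset α => b.image e) :=
    Finset.image_injective e.injective
  have key : ∀ (σ : Equiv.Perm α) (X : Set (Finset α)),
      (e.permCongr σ) • ((fun b : Finset α => b.image e) '' X) =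
        (fun b : Finset α => b.image e) '' (σ • X) := by
    intro σ X
    ext c
    simp only [Set.mem_smul_set, Set.mem_image]
    constructor
    · rintro ⟨_, ⟨b, hb, rfl⟩, rfl⟩
      exact ⟨σ • b, ⟨b, hb, rfl⟩, (permCongr_smul_image e σ b).symm⟩
    · rintro ⟨_, ⟨b, hb, rfl⟩, rfl⟩
      exact ⟨b.image e, ⟨b, hb, rfl⟩, permCongr_smul_image e σ b⟩
  have hmem : ∀ σ : Equiv.Perm α, σ ∈ Cfsg.setSystemAut B ↔ e.permCongr σ ∈ Cfsg.setSystemAut B' := by
    intro σ
    rw [MulAction.mem_stabilizer_iff, MulAction.mem_stabilizer_iff, ← he, key]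
    exact ((Set.image_injective.2 hinj).eq_iff).symm
  refine ⟨{ toFun := fun σ => ⟨e.permCongr σ.1, (hmem σ.1).1 σ.2⟩
            invFun := fun τ => ⟨e.symm.permCongr τ.1, (hmem _).2 (by
              have h1 : e.permCongr (e.symm.permCongr τ.1) = τ.1 := by
                ext y
                simp [Equiv.permCongr_apply]
              rw [h1]
              exact τ.2)⟩
            left_inv := fun σ => by
              apply Subtype.ext
              ext y
              simp [Equiv.permCongr_apply]
            right_inv := fun τ => by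
              apply Subtype.ext
              ext y
              simp [Equiv.permCongr_apply]
            map_mul' := fun σ τ => by
              apply Subtype.ext
              ext y
              simp [Equiv.permCongr_apply] }⟩

end Cfsg.Agent.H69.M11
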