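import Mathlib

set_option autoImplicit false
set_option maxHeartbeats 400000

/-!
Piece S0420-WORD: a word computation in a group generated by two commuting involutions `g`, `h`
and an element `x` of order `3` inverted by `h`.
-/

namespace Cfsg.Agent.H69.M11

theorem no_both_lifts {G : Type*} [Group G] (g h x : G) (hg : g * g = 1) (hh : h * h = 1)
    (hgh : h * g = g * h) (hx3 : x ^ 3 = 1) (hx1 : x ≠ 1) (hhx : h * x * h⁻¹ = x⁻¹)
    (h1 : (g * x) ^ 3 = 1) (h2 : (h * g * x) ^ 3 = 1) : False := by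
  have hginv : g⁻¹ = g := inv_eq_of_mul_eq_one_left hg
  have hhx' : h * x = x⁻¹ * h := by
    rw [← hhx]
    simp only [mul_assoc, inv_mul_cancel, mul_one]
  have hhxi : h * x⁻¹ = x * h := by
    have h3 : x * (h * x) * x⁻¹ = x * (x⁻¹ * h) * x⁻¹ := by rw [hhx']
    have h4 : x * (h * x) * x⁻¹ = x * h := by simp only [mul_assoc, mul_inv_cancel, mul_one]
    have h5 : x * (x⁻¹ * h) * x⁻¹ = h * x⁻¹ := by
      rw [← mul_assoc x, mul_inv_cancel, one_mul]
    rw [← h5, ← h3, h4]
  have e1 : h * g * x = g * x⁻¹ * h := by rw [hgh, mul_assoc, hhx', ← mul_assoc]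
  have e2 : h * g * x⁻¹ = g * x * h := by rw [hgh, mul_assoc, hhxi, ← mul_assoc]
  have e3 : g * x⁻¹ * g * x * g * x⁻¹ * h = 1 := by
    have h3 : (h * g * x) ^ 3 = g * x⁻¹ * g * x * g * x⁻¹ * h := by
      calc (h * g * x) ^ 3 = (h * g * x) * (h * g * x) * (h * g * x) := by rw [pow_succ, pow_two]
        _ = (g * x⁻¹ * h) * (g * x⁻¹ * h) * (g * x⁻¹ * h) := by rw [e1]
        _ = g * x⁻¹ * (h * g * x⁻¹) * (h * g * x⁻¹) * h := by simp only [mul_assoc]
        _ = g * x⁻¹ * (g * x * h) * (g * x * h) * h := by rw [e2]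
        _ = g * x⁻¹ * g * x * (h * g * x) * (h * h) := by simp only [mul_assoc]
        _ = g * x⁻¹ * g * x * (g * x⁻¹ * h) * 1 := by rw [e1, hh]
        _ = g * x⁻¹ * g * x * g * x⁻¹ * h := by simp only [mul_assoc, mul_one]
    rw [← h3]
    exact h2
  have e4 : h = x * g * x⁻¹ * g * x * g := by
    have h3 := eq_inv_of_mul_eq_one_right e3
    rw [h3]
    simp only [mul_inv_rev, inv_inv, hginv, mul_assoc]
  have f1 : g * x * (g * x) * (g * x) = 1 := by rw [← h1, pow_succ, pow_two]
  have f2 : g * x⁻¹ * g = x * g * x := by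
    have h3 : (g * x * g) * (x * g * x) = 1 := by
      rw [← f1]
      simp only [mul_assoc]
    have h4 := eq_inv_of_mul_eq_one_right h3
    rw [h4]
    simp only [mul_inv_rev, hginv, mul_assoc]
  have f3 : x⁻¹ * g * x⁻¹ * g = g * x := by
    have h3 := eq_inv_of_mul_eq_one_right f1
    rw [h3]
    simp only [mul_inv_rev, hginv, mul_assoc]
  have hxinv : x⁻¹ = x * x := by
    have h3 : x * x * x = 1 := by rw [← hx3, pow_succ, pow_two]
    exact inv_eq_of_mul_eq_one_left h3
  have e5 : h = g * x := by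
    calc h = x * (g * x⁻¹ * g) * x * g := by rw [e4]; simp only [mul_assoc]
      _ = x * (x * g * x) * x * g := by rw [f2]
      _ = (x * x) * g * (x * x) * g := by simp only [mul_assoc]
      _ = x⁻¹ * g * x⁻¹ * g := by rw [← hxinv]
      _ = g * x := f3
  have e6 : g * x = 1 := by
    have h3 : g * x * (g * x) = 1 := by
      rw [← e5]
      exact hh
    rw [h3, one_mul] at f1
    exact f1
  have e7 : x = g := by
    have h3 := eq_inv_of_mul_eq_one_right e6
    rw [h3, hginv]
  apply hx1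
  have h3 : x * x = 1 := by
    rw [e7]
    exact hg
  rw [h3] at hxinv
  exact inv_eq_one.1 hxinv

end Cfsg.Agent.H69.M11
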