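import Mathlib
import Cfsg.Agent.H69.ClassSize

/-!
# Classes of π-elements: `k_π(G) ≤ k_π(N) k_π(G/N)`

Gallagher-type counting: with `c(G)` the number of commuting pairs `(x, z)` with `x` a π-element,
`c(G) = |G| k_π(G)` and `c(G) ≤ c(N) c(G/N)`.
-/

namespace Cfsg.Agent.H69

open Subgroup

/-- `x` is a `π`-element: every prime dividing its order lies in `π`. -/
def IsPiElt {G : Type*} [Monoid G] (π : Set ℕ) (x : G) : Prop :=
  ∀ q : ℕ, q.Prime → q ∣ orderOf x → q ∈ π

theorem IsPiElt.of_orderOf_dvd {G : Type*} {H : Type*} [Monoid G] [Monoid H] {π : Set ℕ} {x : G}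
    {y : H} (hx : IsPiElt π x) (h : orderOf y ∣ orderOf x) : IsPiElt π y :=
  fun q hq hqy => hx q hq (hqy.trans h)

theorem eq_one_of_isPiElt_of_compl {G : Type*} [Monoid G] {π : Set ℕ} {x : G}
    (h1 : IsPiElt π x) (h2 : IsPiElt πᶜ x) : x = 1 := by
  by_contra hne
  have h3 : orderOf x ≠ 1 := fun h => hne (orderOf_eq_one_iff.mp h)
  obtain ⟨q, hq, hqd⟩ := Nat.exists_prime_and_dvd h3
  exact h2 q hq hqd (h1 q hq hqd)

/-- Splitting a positive integer into its `π`-part and `π'`-part. -/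
theorem exists_pi_factor (π : Set ℕ) (m : ℕ) (hm : m ≠ 0) :
    ∃ a b : ℕ, a * b = m ∧ (∀ q : ℕ, q.Prime → q ∣ a → q ∈ π) ∧
      (∀ q : ℕ, q.Prime → q ∣ b → q ∉ π) := by
  induction m using Nat.recOnMul with
  | zero => exact absurd rfl hm
  | one => exact ⟨1, 1, rfl, fun q hq h => absurd (Nat.dvd_one.mp h) hq.one_lt.ne',
      fun q hq h => absurd (Nat.dvd_one.mp h) hq.one_lt.ne'⟩
  | prime p hp =>
    by_cases hpπ : p ∈ π
    · refine ⟨p, 1, mul_one p, fun q hq h => ?_,
        fun q hq h => absurd (Nat.dvd_one.mp h) hq.one_lt.ne'⟩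
      rw [(Nat.prime_dvd_prime_iff_eq hq hp).mp h]; exact hpπ
    · refine ⟨1, p, one_mul p, fun q hq h => absurd (Nat.dvd_one.mp h) hq.one_lt.ne',
        fun q hq h => ?_⟩
      rw [(Nat.prime_dvd_prime_iff_eq hq hp).mp h]; exact hpπ
  | mul a b iha ihb =>
    have ha : a ≠ 0 := fun h => hm (by rw [h, zero_mul])
    have hb : b ≠ 0 := fun h => hm (by rw [h, mul_zero])
    obtain ⟨a1, b1, h1, h2, h3⟩ := iha ha
    obtain ⟨a2, b2, h4, h5, h6⟩ := ihb hb
    refine ⟨a1 * a2, b1 * b2, by rw [← h1, ← h4]; ring, fun q hq h => ?_, fun q hq h => ?_⟩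
    · rcases (Nat.Prime.dvd_mul hq).mp h with h | h
      · exact h2 q hq h
      · exact h5 q hq h
    · rcases (Nat.Prime.dvd_mul hq).mp h with h | h
      · exact h3 q hq h
      · exact h6 q hq h

/-- Existence of the `π`-decomposition of an element of finite order, as powers. -/
theorem exists_pi_decomp {G : Type*} [Group G] [Finite G] (π : Set ℕ) (x : G) :
    ∃ k l : ℕ, IsPiElt π (x ^ k) ∧ IsPiElt πᶜ (x ^ l) ∧ x ^ k * x ^ l = x := by
  have hm : orderOf x ≠ 0 := (orderOf_pos x).ne'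
  obtain ⟨a, b, hab, ha, hb⟩ := exists_pi_factor π (orderOf x) hm
  have hcop : Nat.Coprime a b := Nat.coprime_of_dvd fun q hq h1 h2 => hb q hq h2 (ha q hq h1)
  obtain ⟨k, hk1, hk0⟩ := Nat.chineseRemainder hcop 1 0
  obtain ⟨l, hl0, hl1⟩ := Nat.chineseRemainder hcop 0 1
  have hkb : b ∣ k := (Nat.modEq_zero_iff_dvd).mp hk0
  have hla : a ∣ l := (Nat.modEq_zero_iff_dvd).mp hl0
  refine ⟨k, l, ?_, ?_, ?_⟩
  · have h1 : orderOf (x ^ k) ∣ a := by
      apply orderOf_dvd_of_pow_eq_one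
      obtain ⟨c, rfl⟩ := hkb
      rw [← pow_mul, mul_comm b c, mul_assoc, mul_comm b a, hab, mul_comm, pow_mul,
        pow_orderOf_eq_one, one_pow]
    exact fun q hq h => ha q hq (h.trans h1)
  · have h1 : orderOf (x ^ l) ∣ b := by
      apply orderOf_dvd_of_pow_eq_one
      obtain ⟨c, rfl⟩ := hla
      rw [← pow_mul, mul_comm a c, mul_assoc, hab, mul_comm, pow_mul,
        pow_orderOf_eq_one, one_pow]
    exact fun q hq h => fun hqπ => hb q hq (h.trans h1) hqπ
  · rw [← pow_add]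
    conv_rhs => rw [← pow_one x]
    rw [pow_eq_pow_iff_modEq, ← hab]
    apply (Nat.modEq_and_modEq_iff_modEq_mul hcop).mp
    constructor
    · have := hk1.add hl0
      simpa using this
    · have := hk0.add hl1
      simpa using this

/-- In a commuting product of elements of coprime orders, the first factor is a power of the
product. -/
theorem exists_pow_eq_left_of_coprime {G : Type*} [Group G] [Finite G] {s n : G}
    (hc : Commute s n) (hcop : Nat.Coprime (orderOf s) (orderOf n)) :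
    ∃ k : ℕ, (s * n) ^ k = s := by
  obtain ⟨k, hk1, hk0⟩ := Nat.chineseRemainder hcop 1 0
  refine ⟨k, ?_⟩
  rw [hc.mul_pow]
  have h1 : s ^ k = s := by
    conv_rhs => rw [← pow_one s]
    exact pow_eq_pow_iff_modEq.mpr hk1
  have h2 : n ^ k = 1 := by
    rw [← pow_zero n]
    exact pow_eq_pow_iff_modEq.mpr hk0
  rw [h1, h2, mul_one]

theorem coprime_orderOf_of_isPiElt {G : Type*} [Monoid G] {π : Set ℕ} {s n : G}
    (hs : IsPiElt π s) (hn : IsPiElt πᶜ n) : Nat.Coprime (orderOf s) (orderOf n) :=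
  Nat.coprime_of_dvd fun q hq h1 h2 => hn q hq h2 (hs q hq h1)

theorem IsPiElt.mul {G : Type*} [Monoid G] {π : Set ℕ} {s t : G} (hs : IsPiElt π s)
    (ht : IsPiElt π t) (hc : Commute s t) : IsPiElt π (s * t) := by
  intro q hq h
  have h1 : orderOf (s * t) ∣ orderOf s * orderOf t :=
    hc.orderOf_mul_dvd_lcm.trans (Nat.lcm_dvd_mul _ _)
  rcases (Nat.Prime.dvd_mul hq).mp (h.trans h1) with h | h
  · exact hs q hq h
  · exact ht q hq h

theorem IsPiElt.inv {G : Type*} [Group G] {π : Set ℕ} {s : G} (hs : IsPiElt π s) :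
    IsPiElt π s⁻¹ := by
  intro q hq h
  rw [orderOf_inv] at h
  exact hs q hq h

/-- Uniqueness of the `π`-decomposition. -/
theorem pi_decomp_unique {G : Type*} [Group G] [Finite G] {π : Set ℕ} {s n s' n' : G}
    (hc : Commute s n) (hc' : Commute s' n') (hs : IsPiElt π s) (hs' : IsPiElt π s')
    (hn : IsPiElt πᶜ n) (hn' : IsPiElt πᶜ n') (h : s * n = s' * n') : s = s' ∧ n = n' := by
  obtain ⟨k, hk⟩ := exists_pow_eq_left_of_coprime hc (coprime_orderOf_of_isPiElt hs hn)
  obtain ⟨k', hk'⟩ := exists_pow_eq_left_of_coprime hc' (coprime_orderOf_of_isPiElt hs' hn')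
  rw [← h] at hk'
  -- everything is a power of `y = s * n`
  have hy_s' : Commute (s * n) s' := by
    have := (Commute.refl (s * n)).pow_right k'
    rwa [hk'] at this
  have hy_s : Commute (s * n) s := by
    have := (Commute.refl (s * n)).pow_right k
    rwa [hk] at this
  have hss' : Commute s s' := by
    have := hy_s'.pow_left k
    rwa [hk] at this
  have hn_eq : n = s⁻¹ * (s * n) := by group
  have hn'_eq : n' = s'⁻¹ * (s * n) := by rw [h]; group
  have hnn' : Commute n n' := by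
    rw [hn_eq, hn'_eq]
    have e1 : Commute (s⁻¹ * (s * n)) s'⁻¹ :=
      (hss'.inv_inv).mul_left hy_s'.inv_right
    have e2 : Commute (s⁻¹ * (s * n)) (s * n) :=
      (hy_s.symm.inv_left).mul_left (Commute.refl _)
    exact e1.mul_right e2
  have hw : s'⁻¹ * s = n' * n⁻¹ := by
    have : s'⁻¹ * (s * n) * n⁻¹ = s'⁻¹ * (s' * n') * n⁻¹ := by rw [h]
    calc s'⁻¹ * s = s'⁻¹ * (s * n) * n⁻¹ := by group
      _ = s'⁻¹ * (s' * n') * n⁻¹ := this
      _ = n' * n⁻¹ := by group
  have hw1 : IsPiElt π (s'⁻¹ * s) := hs'.inv.mul hs hss'.symm.inv_left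
  have hw2 : IsPiElt πᶜ (s'⁻¹ * s) := by
    rw [hw]; exact hn'.mul hn.inv hnn'.symm.inv_right
  have hone := eq_one_of_isPiElt_of_compl hw1 hw2
  have e1 : s = s' := by
    have := congrArg (fun t => s' * t) hone
    simpa using this
  refine ⟨e1, ?_⟩
  rw [e1] at h
  exact mul_left_cancel h

/-- Functions choosing the `π`-part and `π'`-part of each element. -/
theorem exists_piPart (H : Type*) [Group H] [Finite H] (π : Set ℕ) :
    ∃ f g : H → H, ∀ x : H, IsPiElt π (f x) ∧ IsPiElt πᶜ (g x) ∧ f x * g x = x ∧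
      (∃ k : ℕ, f x = x ^ k) ∧ (∃ l : ℕ, g x = x ^ l) := by
  choose k l h using exists_pi_decomp (G := H) π
  exact ⟨fun x => x ^ k x, fun x => x ^ l x, fun x => ⟨(h x).1, (h x).2.1, (h x).2.2,
    ⟨k x, rfl⟩, ⟨l x, rfl⟩⟩⟩

/-! ### Generic counting -/

theorem card_pairs_eq_sum {α β : Type*} [Fintype α] [Finite β] (R : α → β → Prop) :
    Nat.card {p : α × β // R p.1 p.2} = ∑ a : α, Nat.card {b : β // R a b} := by
  rw [Nat.card_congr (Equiv.subtypeProdEquivSigmaSubtype R), Nat.card_sigma]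

theorem card_le_mul_of_fibers {α β : Type*} [Finite α] [Finite β] (f : α → β) (k : ℕ)
    (h : ∀ b : β, Nat.card {a : α // f a = b} ≤ k) : Nat.card α ≤ Nat.card β * k := by
  classical
  have := Fintype.ofFinite β
  rw [← Nat.card_congr (Equiv.sigmaFiberEquiv f), Nat.card_sigma]
  calc ∑ b : β, Nat.card {a : α // f a = b} ≤ ∑ _b : β, k := Finset.sum_le_sum fun b _ => h b
    _ = Nat.card β * k := by
      rw [Finset.sum_const, Finset.card_univ, smul_eq_mul, Nat.card_eq_fintype_card]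

/-- A coset of `N` meets a centralizer in at most `|C_N(x)|` elements. -/
theorem card_coset_commute_le {G : Type*} [Group G] [Finite G] (N : Subgroup G) [N.Normal]
    (A : Prop) (x : G) (c : G ⧸ N) :
    Nat.card {z : G // A ∧ (z : G ⧸ N) = c ∧ Commute x z} ≤
      Nat.card {n : N // A ∧ Commute x (n : G)} := by
  by_cases hne : Nonempty {z : G // A ∧ (z : G ⧸ N) = c ∧ Commute x z}
  · obtain ⟨⟨z0, hA, hz0, hc0⟩⟩ := hne
    refine Nat.card_le_card_of_injective
      (fun z => ⟨⟨z0⁻¹ * z.1, ?_⟩, hA, ?_⟩) ?_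
    · apply (QuotientGroup.eq).mp
      rw [hz0, z.2.2.1]
    · exact hc0.inv_right.mul_right z.2.2.2
    · intro z z' hzz'
      have h1 : z0⁻¹ * z.1 = z0⁻¹ * z'.1 := congrArg (fun t => (t.1 : G)) hzz'
      exact Subtype.ext (mul_left_cancel h1)
  · rw [not_nonempty_iff] at hne
    rw [Nat.card_of_isEmpty]
    exact Nat.zero_le _

/-- The key injection: pairs `(x, n)` with `x` a `π`-element of the coset `c` and `n ∈ C_N(x)`
inject into pairs `(a, y)` with `a` a `π`-element of `N` and `y ∈ c` commuting with `a`. -/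
theorem card_coset_pairs_le {G : Type*} [Group G] [Finite G] (N : Subgroup G) [N.Normal]
    (π : Set ℕ) (c : G ⧸ N) :
    Nat.card {p : G × N // ((p.1 : G ⧸ N) = c ∧ IsPiElt π p.1) ∧ Commute p.1 (p.2 : G)} ≤
      Nat.card {p : N × G // IsPiElt π p.1 ∧ (p.2 : G ⧸ N) = c ∧ Commute (p.1 : G) p.2} := by
  obtain ⟨f, g, hfg⟩ := exists_piPart N π
  have hcoe : ∀ (n : N) (k : ℕ), ((n ^ k : N) : G) = (n : G) ^ k := fun n k => by simp
  have hpi' : ∀ n : N, IsPiElt πᶜ ((g n : N) : G) := fun n =>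
    (hfg n).2.1.of_orderOf_dvd (by rw [Subgroup.orderOf_coe])
  refine Nat.card_le_card_of_injective
    (fun p => ⟨(f p.1.2, p.1.1 * (g p.1.2 : G)), (hfg p.1.2).1, ?_, ?_⟩) ?_
  · show ((p.1.1 * (g p.1.2 : G) : G) : G ⧸ N) = c
    rw [QuotientGroup.mk_mul, p.2.1.1, (QuotientGroup.eq_one_iff _).mpr (g p.1.2).2, mul_one]
  · show Commute ((f p.1.2 : N) : G) (p.1.1 * (g p.1.2 : G))
    obtain ⟨k, hk⟩ := (hfg p.1.2).2.2.2.1
    obtain ⟨l, hl⟩ := (hfg p.1.2).2.2.2.2
    rw [hk, hl, hcoe, hcoe]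
    exact (p.2.2.symm.pow_left k).mul_right ((Commute.refl (p.1.2 : G)).pow_pow k l)
  · intro p p' hpp'
    have h1 : f p.1.2 = f p'.1.2 := congrArg (fun t => t.1.1) hpp'
    have h2 : p.1.1 * (g p.1.2 : G) = p'.1.1 * (g p'.1.2 : G) := congrArg (fun t => t.1.2) hpp'
    have hc1 : Commute p.1.1 ((g p.1.2 : N) : G) := by
      obtain ⟨l, hl⟩ := (hfg p.1.2).2.2.2.2
      rw [hl, hcoe]; exact p.2.2.pow_right l
    have hc2 : Commute p'.1.1 ((g p'.1.2 : N) : G) := by
      obtain ⟨l, hl⟩ := (hfg p'.1.2).2.2.2.2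
      rw [hl, hcoe]; exact p'.2.2.pow_right l
    obtain ⟨e1, e2⟩ := pi_decomp_unique hc1 hc2 p.2.1.2 p'.2.1.2 (hpi' _) (hpi' _) h2
    have e3 : g p.1.2 = g p'.1.2 := Subtype.ext e2
    have e4 : p.1.2 = p'.1.2 := by
      rw [← (hfg p.1.2).2.2.1, ← (hfg p'.1.2).2.2.1, h1, e3]
    exact Subtype.ext (Prod.ext e1 e4)

/-! ### Commuting pairs and classes of `π`-elements -/

theorem pred_mk_iff_isPiElt {G : Type*} [Group G] (π : Set ℕ) (x : G) :
    (∀ q : ℕ, q.Prime → (∃ g : G, ConjClasses.mk g = ConjClasses.mk x ∧ q ∣ orderOf g) → q ∈ π) ↔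
      IsPiElt π x := by
  constructor
  · exact fun h q hq hd => h q hq ⟨x, rfl, hd⟩
  · rintro h q hq ⟨g, hg, hd⟩
    obtain ⟨c, hc⟩ := ConjClasses.mk_eq_mk_iff_isConj.mp hg
    rw [hc.orderOf_eq] at hd
    exact h q hq hd

theorem card_centralizer_eq_of_isConj {G : Type*} [Group G] [Finite G] {x y : G}
    (h : IsConj x y) :
    Nat.card (centralizer ({x} : Set G)) = Nat.card (centralizer ({y} : Set G)) := by
  obtain ⟨c, hc⟩ := isConj_iff.mp h
  have h1 := index_centralizer_conj c x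
  rw [hc] at h1
  have h2 := (centralizer ({x} : Set G)).index_mul_card
  have h3 := (centralizer ({y} : Set G)).index_mul_card
  rw [h1] at h3
  have hpos : 0 < (centralizer ({x} : Set G)).index :=
    Nat.pos_of_ne_zero (Subgroup.index_ne_zero_of_finite)
  exact (Nat.eq_of_mul_eq_mul_left hpos (h2.trans h3.symm))

/-- The number of commuting pairs with first entry a `π`-element is `|G| k_π(G)`. -/
theorem card_commPairs_eq {G : Type*} [Group G] [Finite G] (π : Set ℕ) :
    Nat.card {p : G × G // IsPiElt π p.1 ∧ Commute p.1 p.2} =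
      Nat.card G * Nat.card {C : ConjClasses G // ∀ q : ℕ, q.Prime →
        (∃ g : G, ConjClasses.mk g = C ∧ q ∣ orderOf g) → q ∈ π} := by
  classical
  have := Fintype.ofFinite G
  rw [card_pairs_eq_sum (fun x z => IsPiElt π x ∧ Commute x z)]
  have key : ∀ C : ConjClasses G,
      ∑ x ∈ Finset.univ.filter (fun x : G => ConjClasses.mk x = C),
        Nat.card {z : G // IsPiElt π x ∧ Commute x z} =
      if (∀ q : ℕ, q.Prime → (∃ g : G, ConjClasses.mk g = C ∧ q ∣ orderOf g) → q ∈ π)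
        then Nat.card G else 0 := by
    intro C
    obtain ⟨x0, rfl⟩ := ConjClasses.mk_surjective C
    have hterm : ∀ x ∈ Finset.univ.filter (fun x : G => ConjClasses.mk x = ConjClasses.mk x0),
        Nat.card {z : G // IsPiElt π x ∧ Commute x z} =
          if IsPiElt π x0 then Nat.card (centralizer ({x0} : Set G)) else 0 := by
      intro x hx
      have hconj : IsConj x x0 :=
        ConjClasses.mk_eq_mk_iff_isConj.mp (Finset.mem_filter.mp hx).2
      have hpi : IsPiElt π x ↔ IsPiElt π x0 := by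
        rw [← pred_mk_iff_isPiElt π x, ← pred_mk_iff_isPiElt π x0,
          ConjClasses.mk_eq_mk_iff_isConj.mpr hconj]
      by_cases h0 : IsPiElt π x0
      · rw [if_pos h0, ← card_centralizer_eq_of_isConj hconj]
        refine Nat.card_congr (Equiv.subtypeEquivRight fun z => ?_)
        rw [mem_centralizer_singleton_iff]
        constructor
        · exact fun h => h.2.eq.symm
        · exact fun h => ⟨hpi.mpr h0, h.symm⟩
      · rw [if_neg h0]
        have : IsEmpty {z : G // IsPiElt π x ∧ Commute x z} :=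
          ⟨fun z => h0 (hpi.mp z.2.1)⟩
        exact Nat.card_of_isEmpty
    rw [Finset.sum_congr rfl hterm, Finset.sum_const, smul_eq_mul]
    have hcard : (Finset.univ.filter (fun x : G => ConjClasses.mk x = ConjClasses.mk x0)).card =
        (centralizer ({x0} : Set G)).index := by
      rw [← card_carrier_eq_index, Nat.card_eq_fintype_card, ← Set.toFinset_card]
      congr 1
      ext x
      simp [ConjClasses.mem_carrier_iff_mk_eq]
    rw [hcard]
    by_cases h0 : IsPiElt π x0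
    · rw [if_pos h0, if_pos ((pred_mk_iff_isPiElt π x0).mpr h0), Subgroup.index_mul_card]
    · rw [if_neg h0, if_neg (fun h => h0 ((pred_mk_iff_isPiElt π x0).mp h)), mul_zero]
  rw [← Finset.sum_fiberwise Finset.univ (ConjClasses.mk (α := G))]
  rw [Finset.sum_congr rfl (fun C _ => key C), Finset.sum_ite, Finset.sum_const_zero, add_zero,
    Finset.sum_const, smul_eq_mul, mul_comm, Nat.card_eq_fintype_card (α := {C : ConjClasses G // _}),
    Fintype.card_subtype]

/-- Gallagher-type inequality for commuting pairs. -/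
theorem card_commPairs_le {G : Type*} [Group G] [Finite G] (N : Subgroup G) [N.Normal]
    (π : Set ℕ) :
    Nat.card {p : G × G // IsPiElt π p.1 ∧ Commute p.1 p.2} ≤
      Nat.card {p : (G ⧸ N) × (G ⧸ N) // IsPiElt π p.1 ∧ Commute p.1 p.2} *
        Nat.card {p : N × N // IsPiElt π p.1 ∧ Commute p.1 p.2} := by
  classical
  have := Fintype.ofFinite G
  have := Fintype.ofFinite N
  let Φ : {p : G × G // IsPiElt π p.1 ∧ Commute p.1 p.2} →
      {p : (G ⧸ N) × (G ⧸ N) // IsPiElt π p.1 ∧ Commute p.1 p.2} := fun p =>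
    ⟨((p.1.1 : G ⧸ N), (p.1.2 : G ⧸ N)),
      p.2.1.of_orderOf_dvd (orderOf_map_dvd (QuotientGroup.mk' N) p.1.1),
      p.2.2.map (QuotientGroup.mk' N)⟩
  apply card_le_mul_of_fibers Φ
  intro b
  calc Nat.card {a // Φ a = b}
      ≤ Nat.card {p : G × G // ((p.1 : G ⧸ N) = b.1.1 ∧ IsPiElt π p.1) ∧
          ((p.2 : G ⧸ N) = b.1.2 ∧ Commute p.1 p.2)} := by
        refine Nat.card_le_card_of_injective (fun a => ⟨a.1.1,
          ⟨congrArg (fun t => t.1.1) a.2, a.1.2.1⟩,
          ⟨congrArg (fun t => t.1.2) a.2, a.1.2.2⟩⟩) ?_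
        intro a a' haa'
        exact Subtype.ext (Subtype.ext (congrArg (fun t => t.1) haa'))
    _ = ∑ x : G, Nat.card {z : G // ((x : G ⧸ N) = b.1.1 ∧ IsPiElt π x) ∧
          ((z : G ⧸ N) = b.1.2 ∧ Commute x z)} :=
        card_pairs_eq_sum (fun (x : G) (z : G) => ((x : G ⧸ N) = b.1.1 ∧ IsPiElt π x) ∧
          ((z : G ⧸ N) = b.1.2 ∧ Commute x z))
    _ ≤ ∑ x : G, Nat.card {n : N // ((x : G ⧸ N) = b.1.1 ∧ IsPiElt π x) ∧
          Commute x (n : G)} :=
        Finset.sum_le_sum fun x _ => card_coset_commute_le N _ x b.1.2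
    _ = Nat.card {p : G × N // ((p.1 : G ⧸ N) = b.1.1 ∧ IsPiElt π p.1) ∧
          Commute p.1 (p.2 : G)} :=
        (card_pairs_eq_sum (fun (x : G) (n : N) => ((x : G ⧸ N) = b.1.1 ∧ IsPiElt π x) ∧
          Commute x (n : G))).symm
    _ ≤ Nat.card {p : N × G // IsPiElt π p.1 ∧ (p.2 : G ⧸ N) = b.1.1 ∧
          Commute (p.1 : G) p.2} := card_coset_pairs_le N π b.1.1
    _ = ∑ a : N, Nat.card {y : G // IsPiElt π a ∧ (y : G ⧸ N) = b.1.1 ∧
          Commute (a : G) y} :=
        card_pairs_eq_sum (fun (a : N) (y : G) => IsPiElt π a ∧ (y : G ⧸ N) = b.1.1 ∧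
          Commute (a : G) y)
    _ ≤ ∑ a : N, Nat.card {n : N // IsPiElt π a ∧ Commute (a : G) (n : G)} :=
        Finset.sum_le_sum fun a _ => card_coset_commute_le N _ (a : G) b.1.1
    _ = Nat.card {p : N × N // IsPiElt π p.1 ∧ Commute (p.1 : G) (p.2 : G)} :=
        (card_pairs_eq_sum (fun (a : N) (n : N) => IsPiElt π a ∧ Commute (a : G) (n : G))).symm
    _ = Nat.card {p : N × N // IsPiElt π p.1 ∧ Commute p.1 p.2} := by
        refine Nat.card_congr (Equiv.subtypeEquivRight fun p => and_congr Iff.rfl ?_)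
        constructor
        · intro h
          exact Subtype.ext h.eq
        · intro h
          exact congrArg (fun t : N => (t : G)) h.eq

/-- `k_π(G) ≤ k_π(N) k_π(G/N)`. -/
theorem card_piClasses_le {G : Type*} [Group G] [Finite G] (N : Subgroup G) [N.Normal]
    (π : Set ℕ) :
    Nat.card {C : ConjClasses G // ∀ q : ℕ, q.Prime →
        (∃ g : G, ConjClasses.mk g = C ∧ q ∣ orderOf g) → q ∈ π} ≤
      Nat.card {C : ConjClasses N // ∀ q : ℕ, q.Prime →
        (∃ g : N, ConjClasses.mk g = C ∧ q ∣ orderOf g) → q ∈ π} *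
      Nat.card {C : ConjClasses (G ⧸ N) // ∀ q : ℕ, q.Prime →
        (∃ g : (G ⧸ N), ConjClasses.mk g = C ∧ q ∣ orderOf g) → q ∈ π} := by
  have hG := card_commPairs_eq (G := G) π
  have hN := card_commPairs_eq (G := N) π
  have hQ := card_commPairs_eq (G := G ⧸ N) π
  have hle := card_commPairs_le N π
  rw [hG, hN, hQ] at hle
  have hcard : Nat.card G = Nat.card (G ⧸ N) * Nat.card N :=
    Subgroup.card_eq_card_quotient_mul_card_subgroup N
  have hpos : 0 < Nat.card G := Nat.card_pos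
  apply Nat.le_of_mul_le_mul_left _ hpos
  calc Nat.card G * _ ≤ _ := hle
    _ = _ := by rw [hcard]; ring

end Cfsg.Agent.H69
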