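import Cfsg.Agent.H99.S4Defs
import Cfsg.Agent.H69.S4C3

/-!
S6000-C3NF piece (helper99's `PSL_4(p)` team project): normal forms of the `4 × 4` matrices of
order dividing three over a finite field with `q ≡ 2 (mod 3)`.
-/

set_option autoImplicit false

namespace Cfsg.Agent.H69.S4

open Cfsg.Agent.H99.S4 Module

universe u v

theorem c3nf_noroot (F : Type u) [Field F] [Fintype F] (h : Fintype.card F % 3 = 2) :
    ∀ l : F, l ^ 2 + l + 1 ≠ 0 := by
  intro l hl
  classical
  have h3 : (3 : F) ≠ 0 := c3_three_ne_zero F h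
  have hl3 : l ^ 3 = 1 := by linear_combination (l - 1) * hl
  have hl1 : l ≠ 1 := by
    rintro rfl
    apply h3
    linear_combination hl
  have hl0 : l ≠ 0 := by
    rintro rfl
    simp at hl3
  have hfact : Fact (Nat.Prime 3) := ⟨by norm_num⟩
  have hord : orderOf (Units.mk0 l hl0) = 3 := by
    apply orderOf_eq_prime
    · apply Units.ext
      simp [hl3]
    · intro h1
      apply hl1
      have h2 := congrArg Units.val h1
      simpa using h2
  have hdvd : 3 ∣ Fintype.card Fˣ := by
    rw [← hord]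
    exact orderOf_dvd_card
  rw [Fintype.card_units] at hdvd
  have hpos : 0 < Fintype.card F := Fintype.card_pos
  omega

theorem c3nf_indep {F : Type u} [Field F] (hnr : ∀ l : F, l ^ 2 + l + 1 ≠ 0) {V : Type v}
    [AddCommGroup V] [Module F V] (T : Module.End F V) (U : Submodule F V)
    (hU : ∀ x ∈ U, T x ∈ U) (w : V) (hw : w ∉ U) (hrel : w + T w + T (T w) ∈ U) (c d : F)
    (h : c • w + d • T w ∈ U) : c = 0 ∧ d = 0 := by
  by_cases hd : d = 0
  · subst hd
    refine ⟨?_, rfl⟩
    by_contra hc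
    apply hw
    have h1 : w = c⁻¹ • (c • w + (0 : F) • T w) := by
      rw [zero_smul, add_zero, smul_smul, inv_mul_cancel₀ hc, one_smul]
    rw [h1]
    exact U.smul_mem _ h
  · exfalso
    have h1 : T w + (c / d) • w ∈ U := by
      have h0 : T w + (c / d) • w = d⁻¹ • (c • w + d • T w) := by
        rw [smul_add, smul_smul, smul_smul, inv_mul_cancel₀ hd, one_smul, add_comm,
          div_eq_inv_mul]
      rw [h0]
      exact U.smul_mem _ h
    have h2 : T (T w + (c / d) • w) ∈ U := hU _ h1
    rw [map_add, map_smul] at h2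
    have h3 : ((c / d) ^ 2 - (c / d) + 1) • w ∈ U := by
      have h0 : ((c / d) ^ 2 - (c / d) + 1) • w = (w + T w + T (T w)) -
          (T (T w) + (c / d) • T w) + ((c / d) - 1) • (T w + (c / d) • w) := by
        module
      rw [h0]
      exact U.add_mem (U.sub_mem hrel h2) (U.smul_mem _ h1)
    have h4 : (c / d) ^ 2 - (c / d) + 1 ≠ 0 := by
      intro h'
      apply hnr (-(c / d))
      linear_combination h'
    apply hw
    have h5 : w = ((c / d) ^ 2 - (c / d) + 1)⁻¹ • (((c / d) ^ 2 - (c / d) + 1) • w) := by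
      rw [smul_smul, inv_mul_cancel₀ h4, one_smul]
    rw [h5]
    exact U.smul_mem _ h3

/-- **S6000-C3NF**. -/
theorem c3NF : Cfsg.Agent.H99.S4.StC3NF.{u} := by
  intro F _ _ hcard y hy
  classical
  have h3 : (3 : F) ≠ 0 := c3_three_ne_zero F hcard
  have hnr := c3nf_noroot F hcard
  obtain ⟨T, hT⟩ : ∃ T : Module.End F (Fin 4 → F), T = Matrix.toLin' y := ⟨_, rfl⟩
  have hT3 : ∀ v, T (T (T v)) = v := by
    intro v
    rw [hT, Matrix.toLin'_apply, Matrix.toLin'_apply, Matrix.toLin'_apply, Matrix.mulVec_mulVec,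
      Matrix.mulVec_mulVec]
    have h1 : y * y * y = 1 := by
      rw [← hy, pow_succ, pow_succ, pow_one]
    rw [h1, Matrix.one_mulVec]
  have hV : finrank F (Fin 4 → F) = 4 := by simp
  -- assembling a conjugating matrix from four independent vectors
  have hbuild : ∀ (g : Fin 4 → (Fin 4 → F)) (n : M4 F), LinearIndependent F g →
      (∀ j, T (g j) = ∑ b, n b j • g b) → ∃ G : M4 F, IsUnit G.det ∧ y * G = G * n := by
    intro g n hli hact
    refine ⟨(Matrix.of g).transpose, ?_, ?_⟩
    · have h1 : IsUnit (Matrix.of g) := (Matrix.linearIndependent_rows_iff_isUnit).mp hli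
      rw [Matrix.det_transpose]
      exact (Matrix.isUnit_iff_isUnit_det _).mp h1
    · ext a j
      have h1 : (y * (Matrix.of g).transpose) a j = (T (g j)) a := by
        rw [hT, Matrix.toLin'_apply, Matrix.mul_apply]
        rfl
      rw [h1, hact j, Matrix.mul_apply, Finset.sum_apply]
      apply Finset.sum_congr rfl
      intro b _
      rw [Pi.smul_apply, smul_eq_mul, mul_comm]
      rfl
  obtain ⟨K, hK⟩ : ∃ K : Submodule F (Fin 4 → F), K = LinearMap.ker (T - 1) := ⟨_, rfl⟩
  obtain ⟨L, hL⟩ : ∃ L : Submodule F (Fin 4 → F), L = LinearMap.ker (1 + T + T * T) :=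
    ⟨_, rfl⟩
  have hKmem : ∀ v, v ∈ K ↔ T v = v := by
    intro v
    rw [hK, LinearMap.mem_ker, LinearMap.sub_apply, sub_eq_zero]
    rfl
  have hLmem : ∀ v, v ∈ L ↔ v + T v + T (T v) = 0 := by
    intro v
    rw [hL, LinearMap.mem_ker]
    rfl
  have hLT : ∀ v ∈ L, T v ∈ L := by
    intro v hv
    rw [hLmem] at hv ⊢
    have h1 := congrArg T hv
    rw [map_add, map_add, map_zero] at h1
    exact h1
  have hKL : ∀ v, v ∈ K → v ∈ L → v = 0 := by
    intro v hvK hvL
    rw [hKmem] at hvK
    rw [hLmem, hvK, hvK] at hvL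
    have h1 : (3 : F) • v = 0 := by
      rw [← hvL]
      module
    rcases smul_eq_zero.mp h1 with h | h
    · exact absurd h h3
    · exact h
  have hsup : ∀ v, ∃ k ∈ K, ∃ l ∈ L, v = k + l := by
    intro v
    refine ⟨(3 : F)⁻¹ • (v + T v + T (T v)), ?_, (3 : F)⁻¹ • ((2 : F) • v - T v - T (T v)), ?_, ?_⟩
    · rw [hKmem, map_smul, map_add, map_add, hT3]
      congr 1
      abel
    · apply L.smul_mem
      rw [hLmem, map_sub, map_sub, map_sub, map_sub, map_smul, map_smul, hT3]
      module
    · have h1 : (3 : F)⁻¹ • (v + T v + T (T v)) + (3 : F)⁻¹ • ((2 : F) • v - T v - T (T v)) =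
          ((3 : F)⁻¹ * 3) • v := by
        module
      rw [h1, inv_mul_cancel₀ h3, one_smul]
  by_cases hLbot : ∀ v ∈ L, v = 0
  · -- `y = 1`
    refine ⟨1, by simp, Or.inl ?_⟩
    have hT1 : ∀ v, T v = v := by
      intro v
      obtain ⟨k, hk, l, hl, rfl⟩ := hsup v
      rw [hLbot l hl, add_zero]
      exact (hKmem k).mp hk
    rw [Matrix.mul_one]
    apply Matrix.toLin'.injective
    apply LinearMap.ext
    intro v
    rw [Matrix.toLin'_one, ← hT]
    exact hT1 v
  · push Not at hLbot
    obtain ⟨v₁, hv₁L, hv₁⟩ := hLbot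
    have hrel₁ := (hLmem v₁).mp hv₁L
    have hTT₁ : T (T v₁) = -v₁ - T v₁ := by
      rw [eq_sub_iff_add_eq, eq_neg_iff_add_eq_zero, ← hrel₁]
      abel
    have hind₁ : ∀ c d : F, c • v₁ + d • T v₁ = 0 → c = 0 ∧ d = 0 := by
      intro c d h
      exact c3nf_indep hnr T ⊥
        (by
          intro x hx
          rw [Submodule.mem_bot] at hx ⊢
          rw [hx, map_zero])
        v₁ (by rw [Submodule.mem_bot]; exact hv₁)
        (by rw [hrel₁]; exact Submodule.zero_mem _) c d (by rw [h]; exact Submodule.zero_mem _)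
    obtain ⟨U₁, hU₁⟩ : ∃ U₁ : Submodule F (Fin 4 → F),
        U₁ = Submodule.span F (Set.range ![v₁, T v₁]) := ⟨_, rfl⟩
    have hU₁mem : ∀ x, x ∈ U₁ ↔ ∃ a b : F, x = a • v₁ + b • T v₁ := by
      intro x
      rw [hU₁, Submodule.mem_span_range_iff_exists_fun]
      constructor
      · rintro ⟨c, hc⟩
        refine ⟨c 0, c 1, ?_⟩
        rw [← hc, Fin.sum_univ_two]
        rfl
      · rintro ⟨a, b, rfl⟩
        refine ⟨![a, b], ?_⟩
        rw [Fin.sum_univ_two]
        rfl
    have hU₁T : ∀ x ∈ U₁, T x ∈ U₁ := by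
      intro x hx
      obtain ⟨a, b, rfl⟩ := (hU₁mem x).mp hx
      rw [hU₁mem]
      refine ⟨-b, a - b, ?_⟩
      rw [map_add, map_smul, map_smul, hTT₁]
      module
    have hU₁L : ∀ x ∈ U₁, x ∈ L := by
      intro x hx
      obtain ⟨a, b, rfl⟩ := (hU₁mem x).mp hx
      exact L.add_mem (L.smul_mem _ hv₁L) (L.smul_mem _ (hLT v₁ hv₁L))
    by_cases hLU : ∀ w ∈ L, w ∈ U₁
    · -- normal form `n3a`
      have hli₁ : LinearIndependent F ![v₁, T v₁] := by
        rw [LinearIndependent.pair_iff]
        exact hind₁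
      have hfrU : finrank F ↥U₁ = 2 := by
        rw [hU₁, finrank_span_eq_card hli₁, Fintype.card_fin]
      have hsupKU : K ⊔ U₁ = ⊤ := by
        rw [eq_top_iff]
        intro v _
        obtain ⟨k, hk, l, hl, rfl⟩ := hsup v
        exact Submodule.add_mem_sup hk (hLU l hl)
      have hinfKU : K ⊓ U₁ = ⊥ := by
        rw [eq_bot_iff]
        intro x hx
        rw [Submodule.mem_bot]
        exact hKL x hx.1 (hU₁L x hx.2)
      have hfrK : finrank F ↥K = 2 := by
        have h1 := Submodule.finrank_sup_add_finrank_inf_eq K U₁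
        rw [hsupKU, hinfKU, finrank_top, finrank_bot, hV, hfrU] at h1
        omega
      obtain ⟨bK⟩ : Nonempty (Basis (Fin 2) F ↥K) := ⟨Module.finBasisOfFinrankEq F ↥K hfrK⟩
      have hk0 : T (bK 0 : Fin 4 → F) = bK 0 := (hKmem _).mp (bK 0).2
      have hk1 : T (bK 1 : Fin 4 → F) = bK 1 := (hKmem _).mp (bK 1).2
      suffices hb : ∃ G : M4 F, IsUnit G.det ∧ y * G = G * n3a F by
        obtain ⟨G, hG, h⟩ := hb
        exact ⟨G, hG, Or.inr (Or.inl h)⟩
      apply hbuild ![v₁, T v₁, (bK 0 : Fin 4 → F), (bK 1 : Fin 4 → F)] (n3a F)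
      · rw [Fintype.linearIndependent_iff]
        intro c hc
        rw [Fin.sum_univ_four] at hc
        have hc' : c 0 • v₁ + c 1 • T v₁ + c 2 • (bK 0 : Fin 4 → F) +
            c 3 • (bK 1 : Fin 4 → F) = 0 := hc
        have hx : c 2 • (bK 0 : Fin 4 → F) + c 3 • (bK 1 : Fin 4 → F) = 0 := by
          apply hKL
          · exact K.add_mem (K.smul_mem _ (bK 0).2) (K.smul_mem _ (bK 1).2)
          · apply hU₁L
            rw [hU₁mem]
            exact ⟨-c 0, -c 1, by linear_combination (norm := module) hc'⟩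
        have h23 : c 2 = 0 ∧ c 3 = 0 := by
          have h4 := Fintype.linearIndependent_iff.mp bK.linearIndependent ![c 2, c 3]
            (by
              rw [Fin.sum_univ_two]
              apply Subtype.ext
              exact hx)
          exact ⟨h4 0, h4 1⟩
        have h01 : c 0 = 0 ∧ c 1 = 0 := by
          apply hind₁
          rw [h23.1, h23.2, zero_smul, zero_smul, add_zero, add_zero] at hc'
          exact hc'
        intro i
        fin_cases i
        exacts [h01.1, h01.2, h23.1, h23.2]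
      · intro j
        fin_cases j
        · simp [n3a, Fin.sum_univ_four]
        · simp [n3a, Fin.sum_univ_four, hTT₁]
          abel
        · simp [n3a, Fin.sum_univ_four, hk0]
        · simp [n3a, Fin.sum_univ_four, hk1]
    · -- normal form `n3b`
      push Not at hLU
      obtain ⟨w, hwL, hwU⟩ := hLU
      have hrelw := (hLmem w).mp hwL
      have hTTw : T (T w) = -w - T w := by
        rw [eq_sub_iff_add_eq, eq_neg_iff_add_eq_zero, ← hrelw]
        abel
      have hind₂ : ∀ c d : F, c • w + d • T w ∈ U₁ → c = 0 ∧ d = 0 := fun c d h =>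
        c3nf_indep hnr T U₁ hU₁T w hwU (by rw [hrelw]; exact U₁.zero_mem) c d h
      suffices hb : ∃ G : M4 F, IsUnit G.det ∧ y * G = G * n3b F by
        obtain ⟨G, hG, h⟩ := hb
        exact ⟨G, hG, Or.inr (Or.inr h)⟩
      apply hbuild ![v₁, T v₁, w, T w] (n3b F)
      · rw [Fintype.linearIndependent_iff]
        intro c hc
        rw [Fin.sum_univ_four] at hc
        have hc' : c 0 • v₁ + c 1 • T v₁ + c 2 • w + c 3 • T w = 0 := hc
        have h23 : c 2 = 0 ∧ c 3 = 0 := by
          apply hind₂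
          rw [hU₁mem]
          exact ⟨-c 0, -c 1, by linear_combination (norm := module) hc'⟩
        have h01 : c 0 = 0 ∧ c 1 = 0 := by
          apply hind₁
          rw [h23.1, h23.2, zero_smul, zero_smul, add_zero, add_zero] at hc'
          exact hc'
        intro i
        fin_cases i
        exacts [h01.1, h01.2, h23.1, h23.2]
      · intro j
        fin_cases j
        · simp [n3b, Fin.sum_univ_four]
        · simp [n3b, Fin.sum_univ_four, hTT₁]
          abel
        · simp [n3b, Fin.sum_univ_four]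
        · simp [n3b, Fin.sum_univ_four, hTTw]
          abel

example : ∀ (F : Type u) [Field F] [Fintype F], Fintype.card F % 3 = 2 →
    ∀ y : M4 F, y ^ 3 = 1 →
    ∃ G : M4 F, IsUnit G.det ∧ (y * G = G ∨ y * G = G * n3a F ∨ y * G = G * n3b F) := c3NF

end Cfsg.Agent.H69.S4
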