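import Mathlib
import Cfsg.Prelude.Def_Involutions

/-!
# A strongly embedded subgroup is transitive on its involutions

`H` strongly embedded in the finite group `G` (frozen `Cfsg.IsStronglyEmbedded`): then
* `C_G(t) ≤ H` for every involution `t ∈ H`,
* there is an involution outside `H`, every involution of `H` is `G`-conjugate to it
  (dihedral argument), and `H` controls fusion of its involutions,
so any two involutions of `H` are conjugate by an element of `H`.
-/

set_option autoImplicit false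

namespace Cfsg.Agent.H69.Se

universe u

variable {G : Type u} [Group G]

/-- No involution in a subgroup of odd order. -/
theorem no_invol_of_odd [Finite G] (K : Subgroup G) (hK : Odd (Nat.card ↥K)) (x : G) (hx : x ∈ K)
    (h2 : orderOf x = 2) : False := by
  have h1 : orderOf (⟨x, hx⟩ : ↥K) ∣ Nat.card ↥K := orderOf_dvd_natCard _
  rw [Subgroup.orderOf_mk, h2] at h1
  exact (Nat.not_even_iff_odd.mpr hK) (even_iff_two_dvd.mpr h1)

/-- In a strongly embedded subgroup, a conjugate `g t g⁻¹ ∈ H` of an involution `t ∈ H` forces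
`g ∈ H`. -/
theorem mem_of_conj_mem [Finite G] (H : Subgroup G) (hH : Cfsg.IsStronglyEmbedded H) (t : G)
    (ht : t ∈ H) (h2 : orderOf t = 2) (g : G) (hg : g * t * g⁻¹ ∈ H) : g ∈ H := by
  by_contra hgH
  have hodd := hH.2.2 g hgH
  refine no_invol_of_odd _ hodd (g * t * g⁻¹) ⟨hg, ?_⟩ ?_
  · exact Subgroup.mem_map.mpr ⟨t, ht, by simp [MulAut.conj_apply]⟩
  · have : g * t * g⁻¹ = MulAut.conj g t := by simp [MulAut.conj_apply]
    rw [this, MulEquiv.orderOf_eq]
    exact h2

/-- Centralizers of involutions of a strongly embedded subgroup lie in it. -/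
theorem cent_le [Finite G] (H : Subgroup G) (hH : Cfsg.IsStronglyEmbedded H) (t : G)
    (ht : t ∈ H) (h2 : orderOf t = 2) (c : G) (hc : c * t = t * c) : c ∈ H := by
  refine mem_of_conj_mem H hH t ht h2 c ?_
  rw [hc, mul_inv_cancel_right]
  exact ht

/-- Two involutions whose product has odd order are conjugate. -/
theorem conj_of_odd (x y : G) (hx : x * x = 1) (hy : y * y = 1) (k : ℕ)
    (hk : (x * y) ^ (2 * k + 1) = 1) : ∃ c : G, c * x * c⁻¹ = y := by
  refine ⟨(x * y) ^ k, ?_⟩
  have hxinv : x⁻¹ = x := inv_eq_of_mul_eq_one_right hx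
  -- `x (x y)^k x⁻¹ = ((x y)⁻¹)^k`
  have h1 : x * (x * y) ^ k * x = ((x * y)⁻¹) ^ k := by
    have : x * (x * y) ^ k * x⁻¹ = (x * (x * y) * x⁻¹) ^ k := (conj_pow).symm
    rw [hxinv] at this
    rw [this]
    congr 1
    have hyinv : y⁻¹ = y := inv_eq_of_mul_eq_one_right hy
    rw [mul_inv_rev, hxinv, hyinv]
    calc x * (x * y) * x = (x * x) * y * x := by group
      _ = y * x := by rw [hx, one_mul]
  -- so `(x y)^k x = x ((x y)⁻¹)^k`
  have h2 : (x * y) ^ k * x = x * ((x * y)⁻¹) ^ k := by
    calc (x * y) ^ k * x = (x * x) * ((x * y) ^ k * x) := by rw [hx, one_mul]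
      _ = x * (x * (x * y) ^ k * x) := by group
      _ = x * ((x * y)⁻¹) ^ k := by rw [h1]
  have h3 : ((x * y) ^ k)⁻¹ = ((x * y)⁻¹) ^ k := (inv_pow _ _).symm
  rw [h2, h3, mul_assoc, ← pow_add]
  have h4 : ((x * y)⁻¹) ^ (k + k) = x * y := by
    have h5 : (x * y) ^ (k + k) * (x * y) = 1 := by
      rw [← pow_succ]
      have : k + k + 1 = 2 * k + 1 := by ring
      rw [this]
      exact hk
    rw [inv_pow]
    exact inv_eq_of_mul_eq_one_right h5
  rw [h4, ← mul_assoc, hx, one_mul]

/-- An involution of `H` and an involution outside `H` have a product of odd order. -/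
theorem odd_order_mul [Finite G] (H : Subgroup G) (hH : Cfsg.IsStronglyEmbedded H) (x y : G)
    (hxH : x ∈ H) (hx : orderOf x = 2) (hy : orderOf y = 2) (hyH : y ∉ H) :
    Odd (orderOf (x * y)) := by
  by_contra hodd
  rw [Nat.not_odd_iff_even] at hodd
  obtain ⟨m, hm⟩ := hodd
  have hpos : 0 < orderOf (x * y) := orderOf_pos _
  have hm0 : 0 < m := by omega
  have hxx : x * x = 1 := by
    have := pow_orderOf_eq_one x
    rw [hx, pow_two] at this
    exact this
  have hyy : y * y = 1 := by
    have := pow_orderOf_eq_one y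
    rw [hy, pow_two] at this
    exact this
  have hxinv : x⁻¹ = x := inv_eq_of_mul_eq_one_right hxx
  have hyinv : y⁻¹ = y := inv_eq_of_mul_eq_one_right hyy
  set u := (x * y) ^ m with hu
  have hu2 : u * u = 1 := by
    rw [hu, ← pow_add, ← hm]
    exact pow_orderOf_eq_one _
  have hu1 : u ≠ 1 := by
    intro h
    have := orderOf_dvd_of_pow_eq_one h
    have := Nat.le_of_dvd hm0 this
    omega
  have huord : orderOf u = 2 := by
    refine orderOf_eq_prime ?_ hu1
    rw [pow_two]
    exact hu2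
  have huinv : u⁻¹ = u := inv_eq_of_mul_eq_one_right hu2
  -- `x u x⁻¹ = u⁻¹ = u`
  have hxu : x * u * x⁻¹ = u := by
    have h1 : x * u * x⁻¹ = (x * (x * y) * x⁻¹) ^ m := (conj_pow).symm
    have h2 : x * (x * y) * x⁻¹ = (x * y)⁻¹ := by
      rw [mul_inv_rev, hxinv, hyinv]
      calc x * (x * y) * x = (x * x) * y * x := by group
        _ = y * x := by rw [hxx, one_mul]
    rw [h1, h2, inv_pow, ← hu, huinv]
  have hyu : y * u * y⁻¹ = u := by
    have h1 : y * u * y⁻¹ = (y * (x * y) * y⁻¹) ^ m := (conj_pow).symm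
    have h2 : y * (x * y) * y⁻¹ = (x * y)⁻¹ := by
      rw [mul_inv_rev, hxinv, hyinv]
      calc y * (x * y) * y = y * x * (y * y) := by group
        _ = y * x := by rw [hyy, mul_one]
    rw [h1, h2, inv_pow, ← hu, huinv]
  have hux : u * x = x * u := by
    have := hxu
    rw [mul_inv_eq_iff_eq_mul] at this
    exact this.symm
  have huH : u ∈ H := cent_le H hH x hxH hx u hux
  have hyu' : y * u = u * y := by
    have := hyu
    rw [mul_inv_eq_iff_eq_mul] at this
    exact this
  exact hyH (cent_le H hH u huH huord y hyu')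

/-- There is an involution outside a strongly embedded subgroup. -/
theorem exists_invol_not_mem [Finite G] (H : Subgroup G) (hH : Cfsg.IsStronglyEmbedded H) :
    ∃ y : G, orderOf y = 2 ∧ y ∉ H := by
  obtain ⟨g, hg⟩ : ∃ g : G, g ∉ H := by
    by_contra h
    push Not at h
    exact hH.1 (eq_top_iff.mpr fun x _ => h x)
  have h2 : 2 ∣ Nat.card ↥H := even_iff_two_dvd.mp hH.2.1
  obtain ⟨t, ht⟩ := exists_prime_orderOf_dvd_card' (G := ↥H) 2 h2
  have ht' : orderOf (t : G) = 2 := by
    rw [Subgroup.orderOf_coe]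
    exact ht
  refine ⟨g * (t : G) * g⁻¹, ?_, ?_⟩
  · have : g * (t : G) * g⁻¹ = MulAut.conj g (t : G) := by simp [MulAut.conj_apply]
    rw [this, MulEquiv.orderOf_eq]
    exact ht'
  · intro hmem
    exact hg (mem_of_conj_mem H hH (t : G) t.2 ht' g hmem)

/-- **A strongly embedded subgroup is transitive on its involutions.** -/
theorem trans_invol [Finite G] (H : Subgroup G) (hH : Cfsg.IsStronglyEmbedded H) :
    ∀ t ∈ H, ∀ s ∈ H, orderOf t = 2 → orderOf s = 2 → ∃ h ∈ H, h * t * h⁻¹ = s := by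
  intro t ht s hs ht2 hs2
  obtain ⟨y, hy2, hyH⟩ := exists_invol_not_mem H hH
  have key : ∀ x ∈ H, orderOf x = 2 → ∃ c : G, c * x * c⁻¹ = y := by
    intro x hxH hx2
    obtain ⟨k, hk⟩ := odd_order_mul H hH x y hxH hx2 hy2 hyH
    have hxx : x * x = 1 := by
      have := pow_orderOf_eq_one x
      rw [hx2, pow_two] at this
      exact this
    have hyy : y * y = 1 := by
      have := pow_orderOf_eq_one y
      rw [hy2, pow_two] at this
      exact this
    refine conj_of_odd x y hxx hyy k ?_
    rw [← hk]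
    exact pow_orderOf_eq_one _
  obtain ⟨a, ha⟩ := key t ht ht2
  obtain ⟨b, hb⟩ := key s hs hs2
  have hconj : (b⁻¹ * a) * t * (b⁻¹ * a)⁻¹ = s := by
    have : s = b⁻¹ * y * b := by rw [← hb]; group
    rw [this, ← ha]
    group
  refine ⟨b⁻¹ * a, ?_, hconj⟩
  refine mem_of_conj_mem H hH t ht ht2 _ ?_
  rw [hconj]
  exact hs

end Cfsg.Agent.H69.Se
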