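import Mathlib

/-!
# A solvable quotient of Zassenhaus type embeds in `S₄` (helper69, piece S3358-EMB of the team
project S3358).
-/

set_option autoImplicit false

namespace Cfsg.Agent.H69.Sfc

universe u

theorem ker_comp_of_injective {G H K : Type*} [Group G] [Group H] [Group K] (g : H →* K)
    (f : G →* H) (hg : Function.Injective g) : (g.comp f).ker = f.ker := by
  ext x
  rw [MonoidHom.mem_ker, MonoidHom.mem_ker, MonoidHom.comp_apply]
  constructor
  · intro h
    exact hg (h.trans (map_one g).symm)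
  · intro h
    rw [h, map_one]

theorem alt5_not_solvable : ¬ Group.IsSolvable (alternatingGroup (Fin 5)) := by
  intro h
  apply Equiv.Perm.not_isSolvable_fin_5
  have := h
  refine Group.isSolvable_of_ker_le_range (alternatingGroup (Fin 5)).subtype
    (Equiv.Perm.sign : Equiv.Perm (Fin 5) →* ℤˣ) ?_
  intro x hx
  exact ⟨⟨x, hx⟩, rfl⟩

theorem exists_dihedral_two_emb :
    ∃ ι : DihedralGroup 2 →* Equiv.Perm (Fin 4), Function.Injective ι := by
  have hcard : Fintype.card (DihedralGroup 2) = 4 := by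
    rw [DihedralGroup.card]
  let e : DihedralGroup 2 ≃ Fin 4 := Fintype.equivFinOfCardEq hcard
  refine ⟨(Equiv.permCongrHom e).toMonoidHom.comp
    (MulAction.toPermHom (DihedralGroup 2) (DihedralGroup 2)), ?_⟩
  intro a b hab
  have h1 : MulAction.toPermHom (DihedralGroup 2) (DihedralGroup 2) a =
      MulAction.toPermHom (DihedralGroup 2) (DihedralGroup 2) b :=
    (Equiv.permCongrHom e).injective hab
  have h2 := congrArg (fun σ : Equiv.Perm (DihedralGroup 2) => σ 1) h1
  simpa using h2

theorem emb_of_qtype {G : Type u} [Group G] [Finite G] (hsol : Group.IsSolvable G)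
    (N : Subgroup G)
    (hN : N = ⊤ ∨
        (∃ f : G →* DihedralGroup 2, Function.Surjective f ∧ f.ker = N) ∨
        (∃ f : G →* alternatingGroup (Fin 4), Function.Surjective f ∧ f.ker = N) ∨
        (∃ f : G →* Equiv.Perm (Fin 4), Function.Surjective f ∧ f.ker = N) ∨
        (∃ f : G →* alternatingGroup (Fin 5), Function.Surjective f ∧ f.ker = N) ∨
        (∃ f : G →* Equiv.Perm (Fin 5), Function.Surjective f ∧ f.ker = N)) :
    ∃ f : G →* Equiv.Perm (Fin 4), f.ker = N := by
  rcases hN with h | ⟨f, -, hf⟩ | ⟨f, -, hf⟩ | ⟨f, -, hf⟩ | ⟨f, hs, -⟩ | ⟨f, hs, -⟩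
  · exact ⟨1, by rw [h, MonoidHom.ker_one]⟩
  · obtain ⟨ι, hι⟩ := exists_dihedral_two_emb
    exact ⟨ι.comp f, by rw [ker_comp_of_injective ι f hι, hf]⟩
  · exact ⟨(alternatingGroup (Fin 4)).subtype.comp f, by
      rw [ker_comp_of_injective _ f (Subgroup.subtype_injective _), hf]⟩
  · exact ⟨f, hf⟩
  · exact absurd (Group.isSolvable_of_surjective hs) alt5_not_solvable
  · exact absurd (Group.isSolvable_of_surjective hs) Equiv.Perm.not_isSolvable_fin_5

example {G : Type u} [Group G] [Finite G] (hsol : Group.IsSolvable G)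
    (N : Subgroup G)
    (hN : N = ⊤ ∨
        (∃ f : G →* DihedralGroup 2, Function.Surjective f ∧ f.ker = N) ∨
        (∃ f : G →* alternatingGroup (Fin 4), Function.Surjective f ∧ f.ker = N) ∨
        (∃ f : G →* Equiv.Perm (Fin 4), Function.Surjective f ∧ f.ker = N) ∨
        (∃ f : G →* alternatingGroup (Fin 5), Function.Surjective f ∧ f.ker = N) ∨
        (∃ f : G →* Equiv.Perm (Fin 5), Function.Surjective f ∧ f.ker = N)) :
    ∃ f : G →* Equiv.Perm (Fin 4), f.ker = N :=
  emb_of_qtype hsol N hN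

end Cfsg.Agent.H69.Sfc
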