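import Mathlib

set_option autoImplicit false

namespace Cfsg.Agent.H69

/-- `H` is generated by its elements killed by `p`. -/
def GenP (p : ℕ) {G : Type*} [Group G] (H : Subgroup G) : Prop :=
  H ≤ Subgroup.closure {x : G | x ∈ H ∧ x ^ p = 1}

theorem GenP.pow_mem_commutator {p : ℕ} {G : Type*} [Group G] {H : Subgroup G}
    (h : GenP p H) (x : H) : x ^ p ∈ commutator H := by
  have key : ∀ y : G, y ∈ Subgroup.closure {x : G | x ∈ H ∧ x ^ p = 1} →
      ∃ hy : y ∈ H, (Abelianization.of (⟨y, hy⟩ : H)) ^ p = 1 := by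
    intro y hy
    induction hy using Subgroup.closure_induction with
    | mem y hy =>
      refine ⟨hy.1, ?_⟩
      rw [← map_pow]
      have : (⟨y, hy.1⟩ : H) ^ p = 1 := Subtype.ext (by simpa using hy.2)
      rw [this, map_one]
    | one => exact ⟨H.one_mem, by
        have : (⟨1, H.one_mem⟩ : H) = 1 := rfl
        rw [this, map_one, one_pow]⟩
    | mul a b _ _ iha ihb =>
      obtain ⟨ha, ha'⟩ := iha
      obtain ⟨hb, hb'⟩ := ihb
      refine ⟨H.mul_mem ha hb, ?_⟩
      have : (⟨a * b, H.mul_mem ha hb⟩ : H) = ⟨a, ha⟩ * ⟨b, hb⟩ := rfl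
      rw [this, map_mul, mul_pow, ha', hb', one_mul]
    | inv a _ iha =>
      obtain ⟨ha, ha'⟩ := iha
      refine ⟨H.inv_mem ha, ?_⟩
      have : (⟨a⁻¹, H.inv_mem ha⟩ : H) = (⟨a, ha⟩ : H)⁻¹ := rfl
      rw [this, map_inv, inv_pow, ha', inv_one]
  obtain ⟨hy, hy'⟩ := key x.1 (h x.2)
  have hx : (Abelianization.of (x ^ p) : Abelianization H) = 1 := by
    rw [map_pow]; exact hy'
  rw [← Abelianization.ker_of]
  exact hx

theorem GenP.map {p : ℕ} {G G' : Type*} [Group G] [Group G'] {H : Subgroup G}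
    (h : GenP p H) (φ : G →* G') : GenP p (H.map φ) := by
  unfold GenP at *
  calc H.map φ ≤ (Subgroup.closure {x : G | x ∈ H ∧ x ^ p = 1}).map φ := Subgroup.map_mono h
    _ = Subgroup.closure (φ '' {x : G | x ∈ H ∧ x ^ p = 1}) := MonoidHom.map_closure φ _
    _ ≤ _ := by
      apply Subgroup.closure_mono
      rintro _ ⟨x, ⟨hx, hxp⟩, rfl⟩
      exact ⟨Subgroup.mem_map_of_mem φ hx, by rw [← map_pow, hxp, map_one]⟩

theorem GenP.sup {p : ℕ} {G : Type*} [Group G] {H K : Subgroup G}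
    (hH : GenP p H) (hK : GenP p K) : GenP p (H ⊔ K) := by
  unfold GenP at *
  refine sup_le (hH.trans ?_) (hK.trans ?_)
  · apply Subgroup.closure_mono
    rintro x ⟨hx, hxp⟩
    exact ⟨(le_sup_left : H ≤ H ⊔ K) hx, hxp⟩
  · apply Subgroup.closure_mono
    rintro x ⟨hx, hxp⟩
    exact ⟨(le_sup_right : K ≤ H ⊔ K) hx, hxp⟩

theorem GenP.of_forall {p : ℕ} {G : Type*} [Group G] {H : Subgroup G}
    (h : ∀ x ∈ H, x ^ p = 1) : GenP p H := fun x hx =>
  Subgroup.subset_closure ⟨hx, h x hx⟩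

theorem GenP.of_map_injective {p : ℕ} {G G' : Type*} [Group G] [Group G'] {H : Subgroup G}
    (φ : G →* G') (hφ : Function.Injective φ) (h : GenP p (H.map φ)) : GenP p H := by
  unfold GenP at *
  have e : {y : G' | y ∈ H.map φ ∧ y ^ p = 1} = φ '' {x : G | x ∈ H ∧ x ^ p = 1} := by
    ext y
    constructor
    · rintro ⟨⟨x, hx, rfl⟩, hy⟩
      refine ⟨x, ⟨hx, ?_⟩, rfl⟩
      apply hφ
      rw [map_pow, hy, map_one]
    · rintro ⟨x, ⟨hx, hxp⟩, rfl⟩
      exact ⟨Subgroup.mem_map_of_mem φ hx, by rw [← map_pow, hxp, map_one]⟩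
  rw [e, ← MonoidHom.map_closure] at h
  exact (Subgroup.map_le_map_iff_of_injective hφ).mp h

theorem GenP.sylow_all {p : ℕ} [Fact p.Prime] {G : Type*} [Group G] [Finite G]
    (P₀ P : Sylow p G) (h : GenP p (P₀ : Subgroup G)) : GenP p (P : Subgroup G) := by
  obtain ⟨g, rfl⟩ := MulAction.exists_smul_eq G P₀ P
  rw [Sylow.coe_subgroup_smul, Subgroup.pointwise_smul_def]
  exact h.map _

/-- Product formula `|HN| = |H| |N|` when `H` normalizes `N` and `H ⊓ N = ⊥`. -/
theorem card_sup_of_normalizer_of_disjoint {G : Type*} [Group G] (H N : Subgroup G)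
    (h : H ≤ Subgroup.normalizer (N : Set G)) (hd : H ⊓ N = ⊥) :
    Nat.card ↥(H ⊔ N) = Nat.card H * Nat.card N := by
  have := Subgroup.normal_subgroupOf_of_le_normalizer h
  have := Subgroup.normal_subgroupOf_sup_of_le_normalizer h
  have h1 : N.relIndex (H ⊔ N) = N.relIndex H :=
    (Nat.card_congr (QuotientGroup.quotientInfEquivProdNormalizerQuotient H N h).toEquiv).symm
  have h2 : Nat.card N * N.relIndex (H ⊔ N) = Nat.card ↥(H ⊔ N) := by
    rw [← Subgroup.relIndex_bot_left, ← Subgroup.relIndex_bot_left]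
    exact Subgroup.relIndex_mul_relIndex ⊥ N (H ⊔ N) bot_le le_sup_right
  have h3 : Nat.card ↥(N ⊓ H) * N.relIndex H = Nat.card H := by
    rw [← Subgroup.inf_relIndex_right N H, ← Subgroup.relIndex_bot_left, ← Subgroup.relIndex_bot_left]
    exact Subgroup.relIndex_mul_relIndex ⊥ (N ⊓ H) H bot_le inf_le_right
  rw [inf_comm, hd] at h3
  rw [Subgroup.card_bot, one_mul] at h3
  rw [← h2, h1, h3, mul_comm]

end Cfsg.Agent.H69
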