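import Cfsg.Agent.H69.SymSylow

set_option autoImplicit false

namespace Cfsg.Agent.H69

section construction

variable (p : ℕ) [Fact p.Prime] (m : ℕ)

/-- fibrewise translations on `Fin m × ZMod p` -/
noncomputable def fibHom : Multiplicative (Fin m → ZMod p) →* Equiv.Perm (Fin m × ZMod p) where
  toFun f := Equiv.prodCongrRight (fun b => Equiv.addRight (Multiplicative.toAdd f b))
  map_one' := by
    ext ⟨b, i⟩ <;> simp
  map_mul' f g := by
    ext ⟨b, i⟩ <;> simp [add_comm, add_left_comm]

theorem fibHom_apply (f : Multiplicative (Fin m → ZMod p)) (b : Fin m) (i : ZMod p) :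
    fibHom p m f (b, i) = (b, i + Multiplicative.toAdd f b) := rfl

theorem fibHom_injective : Function.Injective (fibHom p m) := by
  rw [injective_iff_map_eq_one]
  intro f hf
  apply Multiplicative.toAdd.injective
  funext b
  have := congrArg (fun σ : Equiv.Perm (Fin m × ZMod p) => (σ (b, 0)).2) hf
  simpa [fibHom_apply] using this

/-- permutations of the base on `Fin m × ZMod p` -/
noncomputable def baseHom : Equiv.Perm (Fin m) →* Equiv.Perm (Fin m × ZMod p) where
  toFun τ := Equiv.prodCongr τ (Equiv.refl _)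
  map_one' := by
    ext ⟨b, i⟩ <;> simp
  map_mul' σ τ := by
    ext ⟨b, i⟩ <;> simp

omit [Fact p.Prime] in
theorem baseHom_apply (τ : Equiv.Perm (Fin m)) (b : Fin m) (i : ZMod p) :
    baseHom p m τ (b, i) = (τ b, i) := rfl

theorem baseHom_injective : Function.Injective (baseHom p m) := by
  rw [injective_iff_map_eq_one]
  intro τ hτ
  refine Equiv.ext fun b => ?_
  have := congrArg (fun σ : Equiv.Perm (Fin m × ZMod p) => (σ (b, 0)).1) hτ
  simpa [baseHom_apply] using this

theorem baseHom_conj_fibHom (τ : Equiv.Perm (Fin m)) (f : Multiplicative (Fin m → ZMod p)) :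
    baseHom p m τ * fibHom p m f * (baseHom p m τ)⁻¹ =
      fibHom p m (Multiplicative.ofAdd (fun b => Multiplicative.toAdd f (τ⁻¹ b))) := by
  have h : baseHom p m τ * fibHom p m f =
      fibHom p m (Multiplicative.ofAdd (fun b => Multiplicative.toAdd f (τ⁻¹ b))) *
        baseHom p m τ := by
    refine Equiv.ext fun x => ?_
    obtain ⟨b, i⟩ := x
    simp only [Equiv.Perm.mul_apply, fibHom_apply, baseHom_apply, toAdd_ofAdd]
    have : τ⁻¹ (τ b) = b := by simp
    rw [this]
  rw [h, mul_inv_cancel_right]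

theorem fibHom_pow (f : Multiplicative (Fin m → ZMod p)) : fibHom p m f ^ p = 1 := by
  rw [← map_pow]
  have : f ^ p = 1 := by
    apply Multiplicative.toAdd.injective
    funext b
    simp
  rw [this, map_one]

theorem card_range_fibHom : Nat.card (fibHom p m).range = p ^ m := by
  rw [← Nat.card_congr (MonoidHom.ofInjective (fibHom_injective p m)).toEquiv]
  rw [Nat.card_eq_fintype_card]
  simp [ZMod.card]

theorem map_baseHom_le_normalizer (P : Subgroup (Equiv.Perm (Fin m))) :
    P.map (baseHom p m) ≤ Subgroup.normalizer (((fibHom p m).range : Subgroup _) : Set _) := by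
  rintro _ ⟨τ, -, rfl⟩
  rw [Subgroup.mem_normalizer_iff]
  intro c
  constructor
  · rintro ⟨f, rfl⟩
    rw [baseHom_conj_fibHom]
    exact ⟨_, rfl⟩
  · intro hc
    obtain ⟨g, hg⟩ := hc
    have : c = baseHom p m τ⁻¹ * fibHom p m g * (baseHom p m τ⁻¹)⁻¹ := by
      rw [hg, map_inv]; group
    rw [this, baseHom_conj_fibHom]
    exact ⟨_, rfl⟩

theorem map_baseHom_inf_range (P : Subgroup (Equiv.Perm (Fin m))) :
    P.map (baseHom p m) ⊓ (fibHom p m).range = ⊥ := by
  rw [eq_bot_iff]
  rintro x ⟨⟨τ, -, rfl⟩, ⟨f, hf⟩⟩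
  rw [Subgroup.mem_bot]
  have hτ : τ = 1 := by
    refine Equiv.ext fun b => ?_
    have := congrArg (fun σ : Equiv.Perm (Fin m × ZMod p) => (σ (b, 0)).1) hf
    simp only [fibHom_apply, baseHom_apply] at this
    simpa using this.symm
  rw [hτ, map_one]

/-- the model Sylow subgroup -/
noncomputable def wrSub (P : Subgroup (Equiv.Perm (Fin m))) :
    Subgroup (Equiv.Perm (Fin m × ZMod p)) :=
  P.map (baseHom p m) ⊔ (fibHom p m).range

theorem card_wrSub (P : Subgroup (Equiv.Perm (Fin m))) :
    Nat.card (wrSub p m P) = Nat.card P * p ^ m := by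
  unfold wrSub
  rw [card_sup_of_normalizer_of_disjoint _ _ (map_baseHom_le_normalizer p m P)
    (map_baseHom_inf_range p m P), card_range_fibHom,
    Subgroup.card_map_of_injective (baseHom_injective p m)]

theorem genP_wrSub (P : Subgroup (Equiv.Perm (Fin m))) (hP : GenP p P) :
    GenP p (wrSub p m P) := by
  unfold wrSub
  refine GenP.sup (hP.map _) (GenP.of_forall ?_)
  rintro _ ⟨f, rfl⟩
  exact fibHom_pow p m f

end construction

end Cfsg.Agent.H69
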