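import Cfsg.Agent.H69.SymSylowC

set_option autoImplicit false

namespace Cfsg.Agent.H69

section alt

theorem sign_fibHom_two (m : ℕ) (f : Multiplicative (Fin m → ZMod 2)) :
    Equiv.Perm.sign (fibHom 2 m f) =
      ∏ b, Equiv.Perm.sign (Equiv.addRight (Multiplicative.toAdd f b)) := by
  show Equiv.Perm.sign (Equiv.prodCongrRight
    (fun b => Equiv.addRight (Multiplicative.toAdd f b))) = _
  rw [Equiv.Perm.sign_prodCongrRight]

theorem sign_baseHom_two (m : ℕ) (τ : Equiv.Perm (Fin m)) :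
    Equiv.Perm.sign (baseHom 2 m τ) = 1 := by
  show Equiv.Perm.sign (Equiv.prodCongr τ (Equiv.refl (ZMod 2))) = 1
  rw [Equiv.prodCongr_refl_right, Equiv.Perm.sign_prodCongrLeft]
  simp [ZMod.card]

theorem sign_addRight_one : Equiv.Perm.sign (Equiv.addRight (1 : ZMod 2)) = -1 := by
  have : (Equiv.addRight (1 : ZMod 2)) = Equiv.swap (0 : ZMod 2) 1 := by
    refine Equiv.ext fun x => ?_
    fin_cases x <;> rfl
  rw [this, Equiv.Perm.sign_swap (by decide)]

/-- even fibre translations -/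
noncomputable def evenFib (m : ℕ) : Subgroup (Multiplicative (Fin m → ZMod 2)) :=
  (Equiv.Perm.sign.comp (fibHom 2 m)).ker

theorem card_evenFib (m : ℕ) (hm : 0 < m) : Nat.card (evenFib m) * 2 = 2 ^ m := by
  have hsurj : Function.Surjective (Equiv.Perm.sign.comp (fibHom 2 m)) := by
    intro u
    rcases Int.units_eq_one_or u with rfl | rfl
    · exact ⟨1, by simp⟩
    · refine ⟨Multiplicative.ofAdd (Pi.single (⟨0, hm⟩ : Fin m) (1 : ZMod 2)), ?_⟩
      rw [MonoidHom.comp_apply, sign_fibHom_two]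
      rw [Finset.prod_eq_single (⟨0, hm⟩ : Fin m)]
      · simp only [toAdd_ofAdd, Pi.single_eq_same]
        exact sign_addRight_one
      · intro b _ hb
        simp only [toAdd_ofAdd, Pi.single_eq_of_ne hb]
        simp
      · intro h; exact absurd (Finset.mem_univ _) h
  have h1 := Subgroup.card_mul_index (evenFib m)
  have h2 : (evenFib m).index = 2 := by
    unfold evenFib
    rw [Subgroup.index_ker, MonoidHom.range_eq_top.mpr hsurj, Subgroup.card_top,
      Nat.card_eq_fintype_card, Fintype.card_units_int]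
  rw [h2] at h1
  rw [h1, Nat.card_eq_fintype_card]
  simp [ZMod.card]

/-- the model Sylow 2-subgroup of the alternating group -/
noncomputable def wrAlt (m : ℕ) (P : Subgroup (Equiv.Perm (Fin m))) :
    Subgroup (Equiv.Perm (Fin m × ZMod 2)) :=
  P.map (baseHom 2 m) ⊔ (evenFib m).map (fibHom 2 m)

theorem mem_map_evenFib (m : ℕ) (x : Equiv.Perm (Fin m × ZMod 2)) :
    x ∈ (evenFib m).map (fibHom 2 m) ↔ x ∈ (fibHom 2 m).range ∧ Equiv.Perm.sign x = 1 := by
  constructor
  · rintro ⟨f, hf, rfl⟩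
    exact ⟨⟨f, rfl⟩, hf⟩
  · rintro ⟨⟨f, rfl⟩, hs⟩
    exact ⟨f, hs, rfl⟩

theorem wrAlt_le (m : ℕ) (P : Subgroup (Equiv.Perm (Fin m))) :
    wrAlt m P ≤ alternatingGroup (Fin m × ZMod 2) := by
  unfold wrAlt
  refine sup_le ?_ ?_
  · rintro _ ⟨τ, -, rfl⟩
    exact Equiv.Perm.mem_alternatingGroup.mpr (sign_baseHom_two m τ)
  · intro x hx
    exact Equiv.Perm.mem_alternatingGroup.mpr ((mem_map_evenFib m x).mp hx).2

theorem card_wrAlt (m : ℕ) (hm : 0 < m) (P : Subgroup (Equiv.Perm (Fin m))) :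
    Nat.card (wrAlt m P) * 2 = Nat.card P * 2 ^ m := by
  unfold wrAlt
  have hnorm : P.map (baseHom 2 m) ≤
      Subgroup.normalizer ((((evenFib m).map (fibHom 2 m) : Subgroup _)) : Set _) := by
    intro y hy
    have hy' := map_baseHom_le_normalizer 2 m P hy
    rw [Subgroup.mem_normalizer_iff] at hy' ⊢
    intro c
    have hs : Equiv.Perm.sign (y * c * y⁻¹) = Equiv.Perm.sign c := by
      rw [map_mul, map_mul, map_inv, mul_comm, inv_mul_cancel_left]
    rw [mem_map_evenFib, mem_map_evenFib, hs, ← hy' c]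
  have hdisj : P.map (baseHom 2 m) ⊓ (evenFib m).map (fibHom 2 m) = ⊥ := by
    rw [eq_bot_iff, ← map_baseHom_inf_range 2 m P]
    exact inf_le_inf_left _ (fun x hx => ((mem_map_evenFib m x).mp hx).1)
  rw [card_sup_of_normalizer_of_disjoint _ _ hnorm hdisj,
    Subgroup.card_map_of_injective (baseHom_injective 2 m),
    Subgroup.card_map_of_injective (fibHom_injective 2 m), mul_assoc, card_evenFib m hm]

theorem genP_wrAlt (m : ℕ) (P : Subgroup (Equiv.Perm (Fin m))) (hP : GenP 2 P) :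
    GenP 2 (wrAlt m P) := by
  unfold wrAlt
  refine GenP.sup (hP.map _) (GenP.of_forall ?_)
  rintro _ ⟨f, -, rfl⟩
  exact fibHom_pow 2 m f

end alt

end Cfsg.Agent.H69
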