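import Cfsg.Agent.H69.SymSylowD

set_option autoImplicit false

namespace Cfsg.Agent.H69

section altmain

theorem genP_of_subsingleton (p : ℕ) {G : Type*} [Group G] [Subsingleton G] (H : Subgroup G) :
    GenP p H := GenP.of_forall (fun _ _ => Subsingleton.elim _ _)

theorem genP_sylow_alt_two :
    ∀ (n : ℕ) (Q : Sylow 2 (alternatingGroup (Fin n))),
      GenP 2 (Q : Subgroup (alternatingGroup (Fin n))) := by
  intro n Q
  rcases Nat.lt_or_ge n 2 with hn | hn
  · have : Subsingleton (Equiv.Perm (Fin n)) := by
      have : Subsingleton (Fin n) := by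
        rw [← Fintype.card_le_one_iff_subsingleton, Fintype.card_fin]; omega
      infer_instance
    exact genP_of_subsingleton 2 _
  · obtain ⟨m, r, hr, rfl⟩ : ∃ m r, r < 2 ∧ n = 2 * m + r :=
      ⟨n / 2, n % 2, Nat.mod_lt _ (by norm_num), (Nat.div_add_mod n 2).symm⟩
    have hm : 0 < m := by omega
    obtain ⟨Pm⟩ : Nonempty (Sylow 2 (Equiv.Perm (Fin m))) := inferInstance
    have hPm := genP_sylow_perm 2 m Pm
    have hWle : (wrAlt m (Pm : Subgroup _)).map (liftHom 2 m r) ≤
        alternatingGroup (Fin (2 * m + r)) := by
      rintro _ ⟨σ, hσ, rfl⟩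
      rw [Equiv.Perm.mem_alternatingGroup, sign_liftHom]
      exact Equiv.Perm.mem_alternatingGroup.mp (wrAlt_le m _ hσ)
    have hW : GenP 2 ((wrAlt m (Pm : Subgroup _)).map (liftHom 2 m r)) :=
      (genP_wrAlt m _ hPm).map _
    have hQ0map : (((wrAlt m (Pm : Subgroup _)).map (liftHom 2 m r)).subgroupOf
        (alternatingGroup (Fin (2 * m + r)))).map (alternatingGroup (Fin (2 * m + r))).subtype =
        (wrAlt m (Pm : Subgroup _)).map (liftHom 2 m r) :=
      Subgroup.map_subgroupOf_eq_of_le hWle
    have hQ0 : GenP 2 (((wrAlt m (Pm : Subgroup _)).map (liftHom 2 m r)).subgroupOf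
        (alternatingGroup (Fin (2 * m + r)))) := by
      apply GenP.of_map_injective _ (Subgroup.subtype_injective _)
      rw [hQ0map]; exact hW
    have hnt : Nontrivial (Fin (2 * m + r)) := by
      rw [← Fintype.one_lt_card_iff_nontrivial, Fintype.card_fin]; omega
    have hcardA : 2 * Nat.card (alternatingGroup (Fin (2 * m + r))) = (2 * m + r).factorial := by
      rw [two_mul_nat_card_alternatingGroup, Nat.card_eq_fintype_card, Fintype.card_perm,
        Fintype.card_fin]
    have hApos : Nat.card (alternatingGroup (Fin (2 * m + r))) ≠ 0 := Nat.card_pos.ne'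
    have hfac : (Nat.card (alternatingGroup (Fin (2 * m + r)))).factorization 2 + 1 =
        padicValNat 2 (m.factorial) + m := by
      have h1 : ((2 * m + r).factorial).factorization 2 = padicValNat 2 (m.factorial) + m := by
        rw [Nat.factorization_def _ Nat.prime_two, padicValNat_factorial_mul_add m hr,
          padicValNat_factorial_mul]
      rw [← h1, ← hcardA, Nat.factorization_mul (by norm_num) hApos]
      simp [Nat.prime_two.factorization, add_comm]
    have hcard : Nat.card (((wrAlt m (Pm : Subgroup _)).map (liftHom 2 m r)).subgroupOf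
        (alternatingGroup (Fin (2 * m + r)))) =
        2 ^ (Nat.card (alternatingGroup (Fin (2 * m + r)))).factorization 2 := by
      rw [Nat.card_congr (Subgroup.subgroupOfEquivOfLe hWle).toEquiv,
        Subgroup.card_map_of_injective (liftHom_injective 2 m r)]
      have h2 := card_wrAlt m hm (Pm : Subgroup _)
      have hPc : Nat.card (Equiv.Perm (Fin m)) = m.factorial := by
        rw [Nat.card_eq_fintype_card, Fintype.card_perm, Fintype.card_fin]
      rw [Sylow.card_eq_multiplicity, hPc, Nat.factorization_def _ Nat.prime_two, ← pow_add,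
        ← hfac, pow_succ] at h2
      exact Nat.eq_of_mul_eq_mul_right (by norm_num) h2
    exact GenP.sylow_all (Sylow.ofCard _ hcard) Q (by rw [Sylow.coe_ofCard]; exact hQ0)

theorem genP_sylow_alt_odd (p : ℕ) [Fact p.Prime] (hp : p ≠ 2) :
    ∀ (n : ℕ) (Q : Sylow p (alternatingGroup (Fin n))),
      GenP p (Q : Subgroup (alternatingGroup (Fin n))) := by
  intro n Q
  rcases Nat.lt_or_ge n 2 with hn | hn
  · have : Subsingleton (Equiv.Perm (Fin n)) := by
      have : Subsingleton (Fin n) := by
        rw [← Fintype.card_le_one_iff_subsingleton, Fintype.card_fin]; omega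
      infer_instance
    exact genP_of_subsingleton p _
  · have hnt : Nontrivial (Fin n) := by
      rw [← Fintype.one_lt_card_iff_nontrivial, Fintype.card_fin]; omega
    have hApos : Nat.card (alternatingGroup (Fin n)) ≠ 0 := Nat.card_pos.ne'
    have hfac : (Nat.card (Equiv.Perm (Fin n))).factorization p =
        (Nat.card (alternatingGroup (Fin n))).factorization p := by
      rw [← two_mul_nat_card_alternatingGroup, Nat.factorization_mul (by norm_num) hApos]
      simp [Nat.prime_two.factorization, hp.symm]
    have hcard : Nat.card ((Q : Subgroup (alternatingGroup (Fin n))).map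
        (alternatingGroup (Fin n)).subtype) =
        p ^ (Nat.card (Equiv.Perm (Fin n))).factorization p := by
      rw [Subgroup.card_map_of_injective (Subgroup.subtype_injective _),
        Sylow.card_eq_multiplicity, hfac]
    have h := genP_sylow_perm p n (Sylow.ofCard _ hcard)
    rw [Sylow.coe_ofCard] at h
    exact GenP.of_map_injective _ (Subgroup.subtype_injective _) h

end altmain

end Cfsg.Agent.H69
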