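import Mathlib
import Cfsg.Agent.H77.TpDefs

/-!
# S5980-ORTHINV (piece for helper77)

Orthogonal involutions with a fixed space of prescribed dimension.
-/

set_option autoImplicit false
open scoped MatrixGroups
open scoped Matrix
open scoped Kronecker

namespace Cfsg.Agent.H69.Tp

universe u

theorem orthInv (hGram : Cfsg.Agent.H77.Tp.StGram.{u}) : Cfsg.Agent.H77.Tp.StOrthInv.{u} := by
  intro F _ b f h2 hf j hj
  classical
  obtain ⟨hGt, hGu, hfG⟩ := (hGram F b f).1 hf
  generalize Cfsg.Geo.gramMatrix f = G at hGt hGu hfG ⊢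
  let B : LinearMap.BilinForm F (Fin b → F) := Matrix.toBilin' G
  have hB : ∀ x y, B x y = x ⬝ᵥ G *ᵥ y := fun x y => Matrix.toBilin'_apply' G x y
  have hBs : B.IsSymm := by
    rw [LinearMap.BilinForm.isSymm_def]
    intro x y
    rw [hB, hB, ← hfG, ← hfG, hf.symm]
  let _i2 : Invertible (2 : F) := invertibleOfNonzero h2
  obtain ⟨v0, hv0⟩ := LinearMap.BilinForm.exists_orthogonal_basis
    (LinearMap.BilinForm.isSymm_iff.mp hBs)
  have hfr : Module.finrank F (Fin b → F) = b := Module.finrank_fin_fun F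
  let v : Module.Basis (Fin b) F (Fin b → F) := v0.reindex (finCongr hfr)
  have hv : ∀ k l, k ≠ l → (v k) ⬝ᵥ G *ᵥ (v l) = 0 := by
    intro k l hkl
    rw [← hB]
    have h1 := @hv0 ((finCongr hfr).symm k) ((finCongr hfr).symm l)
      (fun h => hkl ((finCongr hfr).symm.injective h))
    simpa [v] using h1
  let P : Matrix (Fin b) (Fin b) F := (Pi.basisFun F (Fin b)).toMatrix v
  have hP : ∀ i k, P i k = v k i := by
    intro i k; simp [P, Module.Basis.toMatrix_apply]
  have hPu : IsUnit P.det := by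
    have h1 : P * v.toMatrix (Pi.basisFun F (Fin b)) = 1 :=
      Module.Basis.toMatrix_mul_toMatrix_flip _ _
    exact (Matrix.isUnit_iff_isUnit_det P).mp (IsUnit.of_mul_eq_one _ h1)
  let d : Fin b → F := fun k => (v k) ⬝ᵥ G *ᵥ (v k)
  have hPGP : Pᵀ * G * P = Matrix.diagonal d := by
    ext k l
    have h1 : (Pᵀ * G * P) k l = (v k) ⬝ᵥ G *ᵥ (v l) := by
      rw [Matrix.mul_assoc]
      simp only [Matrix.mul_apply, Matrix.transpose_apply, dotProduct, Matrix.mulVec, hP]
    rw [h1]
    by_cases hkl : k = l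
    · subst hkl; rw [Matrix.diagonal_apply_eq]
    · rw [Matrix.diagonal_apply_ne _ hkl]; exact hv k l hkl
  let ε : Fin b → F := fun i => if (i : ℕ) < j then 1 else -1
  let E : Matrix (Fin b) (Fin b) F := Matrix.diagonal ε
  have hEE : E * E = 1 := by
    rw [Matrix.diagonal_mul_diagonal, ← Matrix.diagonal_one]
    congr 1; ext i; simp only [ε]; split_ifs <;> simp
  have hEt : Eᵀ = E := Matrix.diagonal_transpose ε
  have hEdE : E * Matrix.diagonal d * E = Matrix.diagonal d := by
    rw [Matrix.diagonal_mul_diagonal, Matrix.diagonal_mul_diagonal]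
    congr 1; ext i; simp only [ε]; split_ifs <;> simp
  have hPi : P * P⁻¹ = 1 := Matrix.mul_nonsing_inv P hPu
  have hiP : P⁻¹ * P = 1 := Matrix.nonsing_inv_mul P hPu
  refine ⟨P * E * P⁻¹, ?_, ?_, ?_⟩
  · calc P * E * P⁻¹ * (P * E * P⁻¹) = P * E * (P⁻¹ * P) * E * P⁻¹ := by
          simp only [Matrix.mul_assoc]
      _ = P * (E * E) * P⁻¹ := by rw [hiP, Matrix.mul_one]; simp only [Matrix.mul_assoc]
      _ = 1 := by rw [hEE, Matrix.mul_one, hPi]
  · have hG2 : G = (P⁻¹)ᵀ * Matrix.diagonal d * P⁻¹ := by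
      rw [← hPGP]
      calc G = (P * P⁻¹)ᵀ * G * (P * P⁻¹) := by rw [hPi]; simp
        _ = (P⁻¹)ᵀ * (Pᵀ * G * P) * P⁻¹ := by
          rw [Matrix.transpose_mul]; simp only [Matrix.mul_assoc]
    calc (P * E * P⁻¹)ᵀ * G * (P * E * P⁻¹)
        = (P⁻¹)ᵀ * E * (Pᵀ * G * P) * E * P⁻¹ := by
          rw [Matrix.transpose_mul, Matrix.transpose_mul, hEt]; simp only [Matrix.mul_assoc]
      _ = (P⁻¹)ᵀ * (E * Matrix.diagonal d * E) * P⁻¹ := by
          rw [hPGP]; simp only [Matrix.mul_assoc]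
      _ = G := by rw [hEdE, ← hG2]
  · have h1 : P * E * P⁻¹ - 1 = P * (E - 1) * P⁻¹ := by
      rw [Matrix.mul_sub, Matrix.sub_mul, Matrix.mul_one, hPi]
    have hPiu : IsUnit (P⁻¹).det := Matrix.isUnit_nonsing_inv_det P hPu
    rw [h1, Matrix.rank_mul_eq_left_of_isUnit_det _ _ hPiu,
      Matrix.rank_mul_eq_right_of_isUnit_det _ _ hPu]
    have h2' : E - 1 = Matrix.diagonal (fun i => ε i - 1) := by
      rw [← Matrix.diagonal_one, Matrix.diagonal_sub]
    rw [h2', Matrix.rank_diagonal, Fintype.card_subtype]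
    have h3 : (Finset.univ.filter fun i : Fin b => ε i - 1 ≠ 0) =
        Finset.univ.filter (fun i : Fin b => ¬ ((i : ℕ) < j)) := by
      apply Finset.filter_congr
      intro i _
      simp only [ε]
      split_ifs with h
      · simp [h]
      · simp only [h, not_false_eq_true, iff_true]
        intro h0; apply h2; linear_combination -h0
    rw [h3]
    have h4 := Finset.card_filter_add_card_filter_not (s := (Finset.univ : Finset (Fin b)))
      (fun i : Fin b => (i : ℕ) < j)
    rw [Fin.card_filter_val_lt, Finset.card_univ, Fintype.card_fin] at h4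
    have h5 : min b j = j := min_eq_right hj
    omega

example (hGram : Cfsg.Agent.H77.Tp.StGram.{u}) : Cfsg.Agent.H77.Tp.StOrthInv.{u} :=
  orthInv hGram

end Cfsg.Agent.H69.Tp
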