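import Cfsg.Agent.H74.TsDefs

/-!
# TS-K1B (helper69, for helper74's S2948 team project)

`U := Q ⊔ ⟨y⟩` with `y := d₀⁻¹ · j d₀ j⁻¹`, where `[d₀, j] ∉ C`.  Elementary: every `g ∈ J` is
trivial or inverting on `D / C` (order 3); an element trivial on `D / C` is trivial on `D / Q`
(it stabilizes the series `Q ≤ C ≤ D` and `C / Q` has odd order); `j` inverts `y` modulo `Q`
and `y³ ∈ Q`.
-/

set_option autoImplicit false
open Cfsg
open scoped commutatorElement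

namespace Cfsg.Agent.H69.Ts

universe u

open Cfsg.Agent.H74.Ts

/-- In a subgroup of order 3, every element is `1`, `a` or `a⁻¹` for a fixed `a ≠ 1`. -/
theorem mem_card_three {Y : Type*} [Group Y] (H : Subgroup Y) (h3 : Nat.card ↥H = 3) {a : Y}
    (ha : a ∈ H) (ha1 : a ≠ 1) : a ^ 3 = 1 ∧ ∀ t ∈ H, t = 1 ∨ t = a ∨ t = a⁻¹ := by
  have hfin : Finite ↥H := Nat.finite_of_card_ne_zero (by rw [h3]; norm_num)
  have ha3 : a ^ 3 = 1 := by
    have h := pow_card_eq_one' (G := ↥H) (x := ⟨a, ha⟩)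
    rw [h3] at h
    have h2 := congrArg Subtype.val h
    simpa using h2
  have : Fact (Nat.Prime 3) := ⟨by norm_num⟩
  have hord : orderOf a = 3 := orderOf_eq_prime ha3 ha1
  have hz : Subgroup.zpowers a = H := by
    apply Subgroup.eq_of_le_of_card_ge ((Subgroup.zpowers_le).mpr ha)
    rw [Nat.card_zpowers, hord, h3]
  have haaa : a * a * a = 1 := by rw [pow_succ, pow_two] at ha3; exact ha3
  refine ⟨ha3, ?_⟩
  intro t ht
  rw [← hz] at ht
  obtain ⟨k, rfl⟩ := Subgroup.mem_zpowers_iff.mp ht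
  rw [← zpow_mod_orderOf, hord]
  obtain ⟨r, hr⟩ : ∃ r : ℤ, r = k % ((3 : ℕ) : ℤ) := ⟨_, rfl⟩
  have h0 : 0 ≤ r := by rw [hr]; exact Int.emod_nonneg _ (by norm_num)
  have h1 : r < 3 := by rw [hr]; exact Int.emod_lt_of_pos _ (by norm_num)
  rw [← hr]
  interval_cases r
  · left; simp
  · right; left; simp
  · right; right
    rw [show ((2 : ℤ)) = ((2 : ℕ) : ℤ) from rfl, zpow_natCast, pow_two]
    exact eq_inv_of_mul_eq_one_left haaa

theorem k1b : StK1B.{u} := by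
  intro X _ _ C Q J D hCn hQn hQ2 hQC hodd hCJ hJ2 hCD h3 hJD hnot
  classical
  have := hCn
  have := hQn
  obtain ⟨πC, hπC⟩ : ∃ f : X →* X ⧸ C, f = QuotientGroup.mk' C := ⟨_, rfl⟩
  obtain ⟨πQ, hπQ⟩ : ∃ f : X →* X ⧸ Q, f = QuotientGroup.mk' Q := ⟨_, rfl⟩
  have kC : ∀ x, πC x = 1 ↔ x ∈ C := by
    intro x; rw [hπC]; exact QuotientGroup.eq_one_iff x
  have kQ : ∀ x, πQ x = 1 ↔ x ∈ Q := by
    intro x; rw [hπQ]; exact QuotientGroup.eq_one_iff x
  have kerC : πC.ker = C := by rw [hπC]; exact QuotientGroup.ker_mk' C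
  have kerQ : πQ.ker = Q := by rw [hπQ]; exact QuotientGroup.ker_mk' Q
  have cardD : Nat.card ↥(D.map πC) = 3 := by
    have h := Subgroup.relIndex_ker (K := D) πC
    rw [kerC] at h
    rw [← h]; exact h3
  have cardC : Nat.card ↥(C.map πQ) = Q.relIndex C := by
    have h := Subgroup.relIndex_ker (K := C) πQ
    rw [kerQ] at h
    exact h.symm
  have hJDc : ∀ g ∈ J, ∀ d ∈ D, g * d * g⁻¹ ∈ D := by
    intro g hg d hd
    exact (Subgroup.mem_normalizer_iff.mp (hJD hg) d).mp hd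
  -- `J` centralizes `C` modulo `Q`
  have hcomm : ∀ g ∈ J, ∀ c ∈ C, πQ g * πQ c = πQ c * πQ g := by
    intro g hg c hc
    have h1 : ⁅c, g⁆ ∈ Q := hCJ (Subgroup.commutator_mem_commutator hc hg)
    have h2 : πQ ⁅c, g⁆ = 1 := (kQ _).mpr h1
    rw [commutatorElement_def, map_mul, map_mul, map_mul, map_inv, map_inv] at h2
    have h4 := mul_inv_eq_one.mp h2
    rw [mul_inv_eq_iff_eq_mul] at h4
    exact h4.symm
  -- `C / Q` has odd order
  have hCodd : ∀ κ ∈ C.map πQ, ∀ k : ℕ, κ ^ (2 ^ k) = 1 → κ = 1 := by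
    intro κ hκ k hk
    have h1 : κ ^ (Q.relIndex C) = 1 := by
      have h := pow_card_eq_one' (G := ↥(C.map πQ)) (x := ⟨κ, hκ⟩)
      rw [cardC] at h
      have h2 := congrArg Subtype.val h
      simpa using h2
    have h2 : orderOf κ ∣ 2 ^ k := orderOf_dvd_of_pow_eq_one hk
    have h3' : orderOf κ ∣ Q.relIndex C := orderOf_dvd_of_pow_eq_one h1
    have hcop : Nat.Coprime (2 ^ k) (Q.relIndex C) :=
      Nat.Coprime.pow_left k (Nat.coprime_two_left.mpr hodd)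
    have h5 : orderOf κ = 1 :=
      Nat.Coprime.eq_one_of_dvd (Nat.Coprime.coprime_dvd_left h2 hcop) h3'
    exact orderOf_eq_one_iff.mp h5
  obtain ⟨d₀, hd₀, j, hj, hdj⟩ : ∃ d₀ ∈ D, ∃ j ∈ J, ⁅d₀, j⁆ ∉ C := by
    by_contra hcon
    push Not at hcon
    exact hnot ((Subgroup.commutator_le).mpr hcon)
  have ha_mem : πC d₀ ∈ D.map πC := Subgroup.mem_map_of_mem _ hd₀
  have ha1 : πC d₀ ≠ 1 := by
    intro h
    apply hdj
    have hd₀C : d₀ ∈ C := (kC _).mp h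
    have h2 : ⁅d₀, j⁆ = d₀ * (j * d₀⁻¹ * j⁻¹) := by rw [commutatorElement_def]; group
    rw [h2]
    exact C.mul_mem hd₀C (hCn.conj_mem _ (C.inv_mem hd₀C) j)
  obtain ⟨ha3, htri⟩ := mem_card_three (D.map πC) cardD ha_mem ha1
  -- (1) every `g ∈ J` is trivial or inverting on `D / C`
  have hB : ∀ g ∈ J, (∀ d ∈ D, πC (g * d * g⁻¹) = πC d) ∨
      (∀ d ∈ D, πC (g * d * g⁻¹) = (πC d)⁻¹) := by
    intro g hg
    have ht : πC (g * d₀ * g⁻¹) ∈ D.map πC := Subgroup.mem_map_of_mem _ (hJDc g hg d₀ hd₀)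
    have hconj : ∀ d, πC (g * d * g⁻¹) = πC g * πC d * (πC g)⁻¹ := by
      intro d; rw [map_mul, map_mul, map_inv]
    rcases htri _ ht with h | h | h
    · exfalso
      apply ha1
      rw [hconj] at h
      have h2 : πC d₀ = (πC g)⁻¹ * (πC g * πC d₀ * (πC g)⁻¹) * πC g := by group
      rw [h2, h]; group
    · left
      intro d hd
      rw [hconj] at h ⊢
      rcases htri _ (Subgroup.mem_map_of_mem _ hd) with h' | h' | h'
      · rw [h']; group
      · rw [h']; exact h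
      · rw [h']
        have h2 : πC g * (πC d₀)⁻¹ * (πC g)⁻¹ = (πC g * πC d₀ * (πC g)⁻¹)⁻¹ := by group
        rw [h2, h]
    · right
      intro d hd
      rw [hconj] at h ⊢
      rcases htri _ (Subgroup.mem_map_of_mem _ hd) with h' | h' | h'
      · rw [h']; group
      · rw [h']; exact h
      · rw [h']
        have h2 : πC g * (πC d₀)⁻¹ * (πC g)⁻¹ = (πC g * πC d₀ * (πC g)⁻¹)⁻¹ := by group
        rw [h2, h]
  -- (2) trivial on `D / C` implies trivial on `D / Q`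
  have hCtriv : ∀ g ∈ J, (∀ d ∈ D, πC (g * d * g⁻¹) = πC d) →
      ∀ d ∈ D, πQ (g * d * g⁻¹) = πQ d := by
    intro g hg htr d hd
    have hc : d⁻¹ * (g * d * g⁻¹) ∈ C := by
      rw [← kC, map_mul, map_inv, htr d hd, inv_mul_cancel]
    obtain ⟨k, hk⟩ := hJ2 ⟨g, hg⟩
    have hgk : g ^ (2 ^ k) = 1 := by
      have h := congrArg Subtype.val hk
      simpa using h
    have hcm : Commute (πQ g) (πQ (d⁻¹ * (g * d * g⁻¹))) := hcomm g hg _ hc
    have hgd : πQ g * πQ d * (πQ g)⁻¹ = πQ d * πQ (d⁻¹ * (g * d * g⁻¹)) := by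
      rw [map_mul, map_mul, map_mul, map_inv, map_inv]; group
    have hind : ∀ n : ℕ, πQ g ^ n * πQ d * (πQ g ^ n)⁻¹ =
        πQ d * (πQ (d⁻¹ * (g * d * g⁻¹))) ^ n := by
      intro n
      induction n with
      | zero => simp
      | succ n ih =>
        have hpow : πQ g * (πQ (d⁻¹ * (g * d * g⁻¹))) ^ n =
            (πQ (d⁻¹ * (g * d * g⁻¹))) ^ n * πQ g := (hcm.pow_right n).eq
        calc πQ g ^ (n + 1) * πQ d * (πQ g ^ (n + 1))⁻¹
            = πQ g * (πQ g ^ n * πQ d * (πQ g ^ n)⁻¹) * (πQ g)⁻¹ := by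
              rw [pow_succ']; group
          _ = πQ g * (πQ d * (πQ (d⁻¹ * (g * d * g⁻¹))) ^ n) * (πQ g)⁻¹ := by rw [ih]
          _ = (πQ g * πQ d * (πQ g)⁻¹) *
                (πQ g * (πQ (d⁻¹ * (g * d * g⁻¹))) ^ n * (πQ g)⁻¹) := by group
          _ = (πQ g * πQ d * (πQ g)⁻¹) * (πQ (d⁻¹ * (g * d * g⁻¹))) ^ n := by
              rw [hpow, mul_assoc ((πQ (d⁻¹ * (g * d * g⁻¹))) ^ n), mul_inv_cancel, mul_one]
          _ = πQ d * (πQ (d⁻¹ * (g * d * g⁻¹))) ^ (n + 1) := by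
              rw [hgd, pow_succ', mul_assoc]
    have hκ : πQ (d⁻¹ * (g * d * g⁻¹)) ^ (2 ^ k) = 1 := by
      have h := hind (2 ^ k)
      rw [← map_pow, hgk, map_one] at h
      simpa using h.symm
    have hκ1 := hCodd _ (Subgroup.mem_map_of_mem _ hc) k hκ
    rw [map_mul, map_inv] at hκ1
    exact (inv_mul_eq_one.mp hκ1).symm
  -- `j` inverts `D / C`
  have hinv : ∀ d ∈ D, πC (j * d * j⁻¹) = (πC d)⁻¹ := by
    rcases hB j hj with h | h
    · exfalso
      apply hdj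
      rw [← kC]
      have h2 : ⁅d₀, j⁆ = d₀ * (j * d₀ * j⁻¹)⁻¹ := by rw [commutatorElement_def]; group
      rw [h2, map_mul, map_inv, h d₀ hd₀, mul_inv_cancel]
    · exact h
  have hjj : ∀ d ∈ D, πQ (j * j * d * (j * j)⁻¹) = πQ d := by
    apply hCtriv (j * j) (J.mul_mem hj hj)
    intro d hd
    have h2 : j * j * d * (j * j)⁻¹ = j * (j * d * j⁻¹) * j⁻¹ := by group
    rw [h2, hinv _ (hJDc j hj d hd), hinv d hd, inv_inv]
  obtain ⟨y, hy⟩ : ∃ y, y = d₀⁻¹ * (j * d₀ * j⁻¹) := ⟨_, rfl⟩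
  have hyD : y ∈ D := by
    rw [hy]; exact D.mul_mem (D.inv_mem hd₀) (hJDc j hj d₀ hd₀)
  have haaa : πC d₀ * πC d₀ * πC d₀ = 1 := by
    have h := ha3
    rw [pow_succ, pow_two] at h; exact h
  have hyC : πC y = πC d₀ := by
    rw [hy, map_mul, map_inv, hinv d₀ hd₀]
    calc (πC d₀)⁻¹ * (πC d₀)⁻¹
        = (πC d₀)⁻¹ * (πC d₀)⁻¹ * (πC d₀ * πC d₀ * πC d₀) := by rw [haaa, mul_one]
      _ = πC d₀ := by group
  have hynC : y ∉ C := by
    intro h
    exact ha1 (by rw [← hyC]; exact (kC _).mpr h)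
  have hynQ : y ∉ Q := fun h => hynC (hQC h)
  have hjy : πQ (j * y * j⁻¹) = (πQ y)⁻¹ := by
    have h1 : j * y * j⁻¹ = (j * d₀ * j⁻¹)⁻¹ * (j * j * d₀ * (j * j)⁻¹) := by rw [hy]; group
    rw [h1, map_mul, hjj d₀ hd₀, hy, map_mul, map_inv, map_inv]
    group
  have hy3C : y ^ 3 ∈ C := by
    rw [← kC, map_pow, hyC]; exact ha3
  have hy3 : πQ y ^ 3 = 1 := by
    have hκ : πQ (y ^ 3) ∈ C.map πQ := Subgroup.mem_map_of_mem _ hy3C
    have hcm := hcomm j hj _ hy3C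
    have h2 : πQ j * πQ (y ^ 3) * (πQ j)⁻¹ = πQ (y ^ 3) := by rw [hcm]; group
    have h3' : πQ j * πQ (y ^ 3) * (πQ j)⁻¹ = (πQ (y ^ 3))⁻¹ := by
      have h4 : πQ j * πQ (y ^ 3) * (πQ j)⁻¹ = (πQ (j * y * j⁻¹)) ^ 3 := by
        rw [map_pow, map_mul, map_mul, map_inv, conj_pow]
      rw [h4, hjy, map_pow, inv_pow]
    have h1 : πQ (y ^ 3) = (πQ (y ^ 3))⁻¹ := h2.symm.trans h3'
    have h5 : πQ (y ^ 3) ^ (2 ^ 1) = 1 := by
      rw [pow_one, pow_two]
      exact mul_eq_one_iff_eq_inv.mpr h1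
    have h6 := hCodd _ hκ 1 h5
    rwa [map_pow] at h6
  have hyQ1 : πQ y ≠ 1 := fun h => hynQ ((kQ _).mp h)
  have : Fact (Nat.Prime 3) := ⟨by norm_num⟩
  have hord : orderOf (πQ y) = 3 := orderOf_eq_prime hy3 hyQ1
  have hyyy : πQ y * πQ y * πQ y = 1 := by
    have h := hy3
    rw [pow_succ, pow_two] at h; exact h
  have hUQ : ∀ z u : X, u ∈ Q ⊔ Subgroup.zpowers y → πQ z = πQ u →
      z ∈ Q ⊔ Subgroup.zpowers y := by
    intro z u hu h
    have h1 : u⁻¹ * z ∈ Q := by rw [← kQ, map_mul, map_inv, h, inv_mul_cancel]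
    have h2 : z = u * (u⁻¹ * z) := by group
    rw [h2]
    exact Subgroup.mul_mem _ hu (Subgroup.mem_sup_left h1)
  have hyU : y ∈ Q ⊔ Subgroup.zpowers y := Subgroup.mem_sup_right (Subgroup.mem_zpowers y)
  have hgy : ∀ g ∈ J, g * y * g⁻¹ ∈ Q ⊔ Subgroup.zpowers y := by
    intro g hg
    rcases hB g hg with h | h
    · exact hUQ _ y hyU (hCtriv g hg h y hyD)
    · have hinv' : ∀ e ∈ D, πC (j⁻¹ * e * j) = (πC e)⁻¹ := by
        intro e he
        have he' : j⁻¹ * e * j ∈ D := by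
          have h1 := hJDc j⁻¹ (J.inv_mem hj) e he
          simpa using h1
        have h1 := hinv _ he'
        have h2 : j * (j⁻¹ * e * j) * j⁻¹ = e := by group
        rw [h2] at h1
        rw [h1, inv_inv]
      have htr : ∀ d ∈ D, πC (j⁻¹ * g * d * (j⁻¹ * g)⁻¹) = πC d := by
        intro d hd
        have h2 : j⁻¹ * g * d * (j⁻¹ * g)⁻¹ = j⁻¹ * (g * d * g⁻¹) * j := by group
        rw [h2, hinv' _ (hJDc g hg d hd), h d hd, inv_inv]
      have h3' := hCtriv (j⁻¹ * g) (J.mul_mem (J.inv_mem hj) hg) htr y hyD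
      have h4 : πQ (g * y * g⁻¹) = πQ (y⁻¹) := by
        have h5 : g * y * g⁻¹ = j * (j⁻¹ * g * y * (j⁻¹ * g)⁻¹) * j⁻¹ := by group
        rw [h5, map_mul, map_mul, h3', ← map_mul, ← map_mul, hjy, map_inv]
      exact hUQ _ y⁻¹ (Subgroup.inv_mem _ hyU) h4
  have hconjU : ∀ g ∈ J, ∀ u ∈ Q ⊔ Subgroup.zpowers y,
      g * u * g⁻¹ ∈ Q ⊔ Subgroup.zpowers y := by
    intro g hg
    have hle : Q ⊔ Subgroup.zpowers y ≤
        (Q ⊔ Subgroup.zpowers y).comap (MulAut.conj g).toMonoidHom := by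
      apply sup_le
      · intro q hq
        rw [Subgroup.mem_comap]
        exact Subgroup.mem_sup_left (hQn.conj_mem q hq g)
      · rw [Subgroup.zpowers_le, Subgroup.mem_comap]
        exact hgy g hg
    intro u hu
    exact hle hu
  refine ⟨Q ⊔ Subgroup.zpowers y, le_sup_left, ?_, ?_, ?_, ?_⟩
  · have hrel := Subgroup.relIndex_ker (K := Q ⊔ Subgroup.zpowers y) πQ
    rw [kerQ] at hrel
    rw [hrel, Subgroup.map_sup, (Subgroup.map_eq_bot_iff _).mpr (le_of_eq kerQ.symm), bot_sup_eq,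
      MonoidHom.map_zpowers, Nat.card_zpowers, hord]
  · intro g hg
    rw [Subgroup.mem_normalizer_iff]
    intro h
    constructor
    · exact hconjU g hg h
    · intro hh
      have h1 := hconjU g⁻¹ (J.inv_mem hg) _ hh
      have h2 : g⁻¹ * (g * h * g⁻¹) * g⁻¹⁻¹ = h := by group
      rwa [h2] at h1
  · apply le_antisymm
    · apply sup_le _ le_sup_left
      rw [Subgroup.commutator_le]
      intro u hu g hg
      have h1 : ⁅u, g⁆ = u * (g * u⁻¹ * g⁻¹) := by rw [commutatorElement_def]; group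
      rw [h1]
      exact Subgroup.mul_mem _ hu (hconjU g hg _ (Subgroup.inv_mem _ hu))
    · apply sup_le le_sup_right
      rw [Subgroup.zpowers_le]
      have hc : ⁅y, j⁆ ∈ ⁅Q ⊔ Subgroup.zpowers y, J⁆ :=
        Subgroup.commutator_mem_commutator hyU hj
      have hπ : πQ ⁅y, j⁆ = (πQ y)⁻¹ := by
        have h1 : ⁅y, j⁆ = y * (j * y * j⁻¹)⁻¹ := by rw [commutatorElement_def]; group
        rw [h1, map_mul, map_inv, hjy, inv_inv]
        exact eq_inv_of_mul_eq_one_left hyyy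
      have hq : (⁅y, j⁆)⁻¹ * y⁻¹ ∈ Q := by
        rw [← kQ, map_mul, map_inv, hπ, map_inv, inv_mul_cancel]
      have hy1 : y⁻¹ ∈ ⁅Q ⊔ Subgroup.zpowers y, J⁆ ⊔ Q := by
        have h1 : y⁻¹ = ⁅y, j⁆ * ((⁅y, j⁆)⁻¹ * y⁻¹) := by group
        rw [h1]
        exact Subgroup.mul_mem _ (Subgroup.mem_sup_left hc) (Subgroup.mem_sup_right hq)
      have h2 := Subgroup.inv_mem _ hy1
      rwa [inv_inv] at h2
  · intro hUC
    exact hynC (hUC hyU)

example : Cfsg.Agent.H74.Ts.StK1B.{u} := k1b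

end Cfsg.Agent.H69.Ts

#print axioms Cfsg.Agent.H69.Ts.k1b
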